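import Groth.Agent.Perf.K370.PushColim
import Groth.Agent.Models2.QCohColim
import Groth.Agent.PerfA.HypPush2
import Groth.Agent.PerfA.Restrict
import Groth.Agent.PerfC.RpushTrunc
import Groth.Agent.PerfB.DQGeom
import Groth.Agent.Dcoh.MapDer

/-!
# `Rf_*` and filtered colimits of complexes with quasi-coherent cohomology
-/

set_option autoImplicit false

universe u

open CategoryTheory CategoryTheory.Limits AlgebraicGeometry Pretriangulated

attribute [local instance] HasDerivedCategory.standard

namespace K370.QCohPush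

open Groth.Agent K370.PushColim

section Abs

variable {A : Type*} [Category* A] [Abelian A] [HasDerivedCategory A]

/-- The cohomology of the cone vanishes where the morphism is an isomorphism. -/
lemma isZero_cone {K L C : DerivedCategory A} (u : K ⟶ L) (v : L ⟶ C) (w : C ⟶ K⟦(1 : ℤ)⟧)
    (hT : Triangle.mk u v w ∈ distTriang (DerivedCategory A)) (q : ℤ)
    (h : Epi ((DerivedCategory.homologyFunctor A q).map u))
    (h' : Mono ((DerivedCategory.homologyFunctor A (q + 1)).map u)) :
    IsZero ((DerivedCategory.homologyFunctor A q).obj C) := by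
  have h1 := (DerivedCategory.HomologySequence.epi_homologyMap_mor₁_iff _ hT q).1 h
  have h2 := (DerivedCategory.HomologySequence.mono_homologyMap_mor₁_iff _ hT q (q + 1) rfl).1 h'
  exact (DerivedCategory.HomologySequence.exact₃ _ hT q (q + 1) rfl).isZero_of_both_zeros h1 h2

/-- A morphism is an isomorphism on cohomology where the cohomology of the cone vanishes. -/
lemma isIso_of_isZero_cone {K L C : DerivedCategory A} (u : K ⟶ L) (v : L ⟶ C) (w : C ⟶ K⟦(1 : ℤ)⟧)
    (hT : Triangle.mk u v w ∈ distTriang (DerivedCategory A)) (q : ℤ)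
    (h : IsZero ((DerivedCategory.homologyFunctor A (q - 1)).obj C))
    (h' : IsZero ((DerivedCategory.homologyFunctor A q).obj C)) :
    IsIso ((DerivedCategory.homologyFunctor A q).map u) := by
  have h1 : Mono ((DerivedCategory.homologyFunctor A q).map u) :=
    (DerivedCategory.HomologySequence.mono_homologyMap_mor₁_iff _ hT (q - 1) q (by lia)).2
      (h.eq_of_src _ _)
  have h2 : Epi ((DerivedCategory.homologyFunctor A q).map u) :=
    (DerivedCategory.HomologySequence.epi_homologyMap_mor₁_iff _ hT q).2 (h'.eq_of_tgt _ _)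
  exact isIso_of_mono_of_epi _

end Abs

variable {X Y : Scheme.{u}} (f : X ⟶ Y) [QuasiCompact f] [QuasiSeparated f] [DCoh.HasRpush f]

/-- `H^i(Rf_*)` of a morphism between complexes with quasi-coherent cohomology depends only on high degrees
(`Y` quasi-compact). -/
theorem exists_isIso_HRpush [CompactSpace Y] :
    ∃ N : ℤ, ∀ {K L : DCoh.D X} (u : K ⟶ L), DCoh.IsQCohD K → DCoh.IsQCohD L → ∀ m : ℤ,
      (∀ q, m ≤ q → IsIso ((DerivedCategory.homologyFunctor X.Modules q).map u)) → ∀ i, m + N ≤ i →
        IsIso ((DerivedCategory.homologyFunctor Y.Modules i).map ((DCoh.Rpush f).map u)) := by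
  obtain ⟨N, hN⟩ := PerfA.HypPush2.exists_bound_Rpush f
  refine ⟨N, fun {K L} u hK hL m hu i hi => ?_⟩
  obtain ⟨C, v, w, hT⟩ := distinguished_cocone_triangle u
  have hC : DCoh.IsQCohD C := (DCoh.IsQCohD (X := X)).ext_of_isTriangulatedClosed₃ _ hT hK hL
  have hC' : C.IsLE (m - 1) := by
    rw [DerivedCategory.isLE_iff]
    intro q hq
    have h1 := hu q (by lia)
    have h2 := hu (q + 1) (by lia)
    exact isZero_cone u v w hT q inferInstance inferInstance
  obtain ⟨w', hT'⟩ := PerfC.RpushTrunc.exists_triangle f u v w hT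
  exact isIso_of_isZero_cone _ _ _ hT' i (hN C hC (m - 1) hC' _ (by lia)) (hN C hC (m - 1) hC' _ (by lia))

/-- The local version over any `Y`. -/
theorem exists_isIso_restrict (U : Y.Opens) [CompactSpace U] :
    ∃ N : ℤ, ∀ {K L : DCoh.D X} (u : K ⟶ L), DCoh.IsQCohD K → DCoh.IsQCohD L → ∀ m : ℤ,
      (∀ q, m ≤ q → IsIso ((DerivedCategory.homologyFunctor X.Modules q).map u)) → ∀ i, m + N ≤ i →
        IsIso ((Scheme.Modules.restrictFunctor U.ι).map
          ((DerivedCategory.homologyFunctor Y.Modules i).map ((DCoh.Rpush f).map u))) := by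
  have := Dcoh.DerSch.hasRpush (f ∣_ U)
  obtain ⟨N, hN⟩ := exists_isIso_HRpush (f ∣_ U)
  refine ⟨N, fun {K L} u hK hL m hu i hi => ?_⟩
  obtain ⟨e⟩ := Dcoh.DerSch.exists_rpushRestrictIso f (f ∣_ U) (f ⁻¹ᵁ U).ι U.ι
    (isPullback_morphismRestrict f U).flip
  rw [← Dcoh.MapDer.isIso_homology_map_iff]
  have h1 := hN ((DCoh.restrictD (f ⁻¹ᵁ U).ι).map u) (PerfB.DQGeom.isQCohD_restrictD _ hK)
    (PerfB.DQGeom.isQCohD_restrictD _ hL) m (fun q hq => by
      have := hu q hq
      exact Dcoh.MapDer.isIso_homology_map _ _ _ this) i hi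
  have h2 := NatIso.isIso_map_iff (Functor.isoWhiskerRight e
    (DerivedCategory.homologyFunctor _ i)) u
  exact h2.2 h1

/-- A cocone of modules is a colimit if it is so on an open cover. -/
lemma nonempty_isColimit_of_restrict {J : Type u} [SmallCategory J] {D : J ⥤ Y.Modules} (t : Cocone D)
    (h : ∀ y : Y, ∃ U : Y.Opens, y ∈ U ∧
      Nonempty (IsColimit ((Scheme.Modules.restrictFunctor U.ι).mapCocone t))) : Nonempty (IsColimit t) := by
  have h1 : IsIso (colimit.desc D t) := by
    refine PerfA.Restrict.isIso_of_restrict_opens _ fun y => ?_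
    obtain ⟨U, hy, ⟨h2⟩⟩ := h y
    refine ⟨U, hy, ?_⟩
    have h3 : IsColimit ((Scheme.Modules.restrictFunctor U.ι).mapCocone (colimit.cocone D)) :=
      isColimitOfPreserves _ (colimit.isColimit D)
    have h4 : (Scheme.Modules.restrictFunctor U.ι).map (colimit.desc D t) =
        (h3.coconePointUniqueUpToIso h2).hom := by
      refine h3.hom_ext fun j => ?_
      rw [IsColimit.comp_coconePointUniqueUpToIso_hom]
      change (Scheme.Modules.restrictFunctor U.ι).map (colimit.ι D j) ≫ _ = _
      rw [← Functor.map_comp, colimit.ι_desc]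
      rfl
    rw [h4]
    infer_instance
  exact ⟨IsColimit.ofPointIso (colimit.isColimit D) (i := h1)⟩

/-- Filtered colimits of complexes with quasi-coherent cohomology have quasi-coherent cohomology. -/
theorem isQCohD_colimit {J : Type u} [SmallCategory J] [IsFiltered J] (C : J ⥤ CochainComplex X.Modules ℤ)
    (c : Cocone C) (hc : IsColimit c) (hC : ∀ j, DCoh.IsQCohD (DCoh.toD X (C.obj j))) :
    DCoh.IsQCohD (DCoh.toD X c.pt) := by
  have := Dcoh.DerSch.isGrothendieckAbelian X
  intro i
  have h1 : IsColimit ((HomologicalComplex.homologyFunctor X.Modules (ComplexShape.up ℤ) i).mapCocone c) :=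
    isColimitOfPreserves _ hc
  refine Models2.QCohColim.isQC_of_iso ((DerivedCategory.homologyFunctorFactors X.Modules i).symm.app c.pt) ?_
  refine Models2.QCohColim.isQC_colimit _ h1 fun j => ?_
  exact Models2.QCohColim.isQC_of_iso ((DerivedCategory.homologyFunctorFactors X.Modules i).app (C.obj j)) (hC j i)

lemma isIso_homology_Q_iff {K L : CochainComplex X.Modules ℤ} (φ : K ⟶ L) (q : ℤ) :
    IsIso ((DerivedCategory.homologyFunctor X.Modules q).map (DerivedCategory.Q.map φ)) ↔ QuasiIsoAt φ q := by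
  rw [quasiIsoAt_iff_isIso_homologyMap]
  exact NatIso.isIso_map_iff (DerivedCategory.homologyFunctorFactors X.Modules q) φ

lemma isQCohD_truncGE {K : CochainComplex X.Modules ℤ} (hK : DCoh.IsQCohD (DCoh.toD X K)) (m : ℤ) :
    DCoh.IsQCohD (DCoh.toD X (K.truncGE m)) := by
  intro q
  by_cases hq : m ≤ q
  · have h1 : IsIso ((DerivedCategory.homologyFunctor X.Modules q).map
        (DerivedCategory.Q.map (K.πTruncGE m))) :=
      (isIso_homology_Q_iff _ q).2 (CochainComplex.quasiIsoAt_πTruncGE _ m q hq)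
    exact Models2.QCohColim.isQC_of_iso (asIso ((DerivedCategory.homologyFunctor X.Modules q).map
        (DerivedCategory.Q.map (K.πTruncGE m)))) (hK q)
  · have h1 : (DCoh.toD X (K.truncGE m)).IsGE m := (DerivedCategory.isGE_Q_obj_iff _ m).2 inferInstance
    have h2 : IsZero (DCoh.HD (DCoh.toD X (K.truncGE m)) q) :=
      DerivedCategory.isZero_of_isGE _ m q (by lia)
    exact (PerfA.QCohSerre.qcoh X).prop_of_isZero h2

/-- Filtered colimits of complexes with quasi-coherent cohomology. -/
theorem nonempty_isColimit {J : Type u} [SmallCategory J] [IsFiltered J] (C : J ⥤ CochainComplex X.Modules ℤ)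
    (c : Cocone C) (hc : IsColimit c) (hC : ∀ j, DCoh.IsQCohD (DCoh.toD X (C.obj j))) (i : ℤ) :
    Nonempty (IsColimit ((DerivedCategory.Q ⋙ DCoh.Rpush f ⋙
      DerivedCategory.homologyFunctor Y.Modules i).mapCocone c)) := by
  have := Dcoh.DerSch.isGrothendieckAbelian X
  refine nonempty_isColimit_of_restrict _ fun y => ?_
  obtain ⟨U, hU, hy, -⟩ := exists_isAffineOpen_mem_and_subset (U := (⊤ : Y.Opens)) (x := y) trivial
  have : CompactSpace U := isCompact_iff_compactSpace.1 hU.isCompact
  obtain ⟨N, hN⟩ := exists_isIso_restrict f U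
  refine ⟨U, hy, ?_⟩
  let m : ℤ := i - N
  let D := DiagInj.truncGE C m
  let φ : C ⟶ D := DiagInj.πTruncGE C m
  let d := colimit.cocone D
  let hd : IsColimit d := colimit.isColimit D
  let ψ : c.pt ⟶ d.pt := hc.desc ((Cocone.precompose φ).obj d)
  have hψ : ∀ j, c.ι.app j ≫ ψ = φ.app j ≫ d.ι.app j := fun j => hc.fac ((Cocone.precompose φ).obj d) j
  have hD : ∀ j, DCoh.IsQCohD (DCoh.toD X (D.obj j)) := fun j => isQCohD_truncGE (hC j) m
  have hφq : ∀ j q, m ≤ q → IsIso ((DerivedCategory.homologyFunctor X.Modules q).map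
      (DerivedCategory.Q.map (φ.app j))) := fun j q hq =>
    (isIso_homology_Q_iff _ q).2 (CochainComplex.quasiIsoAt_πTruncGE _ m q hq)
  have hψq : ∀ q, m ≤ q → IsIso ((DerivedCategory.homologyFunctor X.Modules q).map
      (DerivedCategory.Q.map ψ)) := fun q hq => by
    rw [isIso_homology_Q_iff, quasiIsoAt_iff_isIso_homologyMap]
    let H := HomologicalComplex.homologyFunctor X.Modules (ComplexShape.up ℤ) q
    have h1 : IsColimit (H.mapCocone c) := isColimitOfPreserves _ hc
    have h2 : IsColimit (H.mapCocone d) := isColimitOfPreserves _ hd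
    have h3 : ∀ j, IsIso (H.map (φ.app j)) := fun j =>
      (quasiIsoAt_iff_isIso_homologyMap _ _).1 (CochainComplex.quasiIsoAt_πTruncGE _ m q hq)
    let e : C ⋙ H ≅ D ⋙ H := NatIso.ofComponents (fun j => @asIso _ _ _ _ (H.map (φ.app j)) (h3 j))
      (fun g => by
        change H.map (C.map g) ≫ H.map (φ.app _) = H.map (φ.app _) ≫ H.map (D.map g)
        rw [← H.map_comp, ← H.map_comp, φ.naturality])
    have h4 : H.map ψ = (h1.coconePointsIsoOfNatIso h2 e).hom := by
      refine h1.hom_ext fun j => ?_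
      rw [IsColimit.comp_coconePointsIsoOfNatIso_hom]
      change H.map (c.ι.app j) ≫ H.map ψ = H.map (φ.app j) ≫ H.map (d.ι.app j)
      rw [← H.map_comp, ← H.map_comp, hψ]
    change IsIso (H.map ψ)
    rw [h4]
    infer_instance
  obtain ⟨h1⟩ := PushColim.nonempty_isColimit f D d hd m (fun j =>
    inferInstanceAs (((C.obj j).truncGE m).IsGE m)) i
  have h2 : IsColimit (((DerivedCategory.Q ⋙ DCoh.Rpush f ⋙
      DerivedCategory.homologyFunctor Y.Modules i) ⋙ Scheme.Modules.restrictFunctor U.ι).mapCocone d) :=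
    isColimitOfPreserves (Scheme.Modules.restrictFunctor U.ι) h1
  have hdq : DCoh.IsQCohD (DCoh.toD X d.pt) := isQCohD_colimit D d hd hD
  have hcq : DCoh.IsQCohD (DCoh.toD X c.pt) := isQCohD_colimit C c hc hC
  exact nonempty_isColimit_of_map (G := (DerivedCategory.Q ⋙ DCoh.Rpush f ⋙
      DerivedCategory.homologyFunctor Y.Modules i) ⋙ Scheme.Modules.restrictFunctor U.ι) φ c d ψ hψ
    (fun j => hN (DerivedCategory.Q.map (φ.app j)) (hC j) (hD j) m (hφq j) i (by lia))
    (hN (DerivedCategory.Q.map ψ) hcq hdq m hψq i (by lia)) h2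

end K370.QCohPush
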