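import Groth.Agent.DRing.K231.Cech
import Groth.Agent.PerfB.KoszulOrth
import Groth.Agent.Dual3.K478.GammaZ

/-!
# The extended Čech complex computes `RΓ_Z` on affine schemes

`nonempty_iso`: for `A` a ring, `fs` a finite list of elements and `M` an `A`-module, the object of `D(O_{Spec A})`
attached to the extended alternating Čech complex of `M` is `RΓ_Z(M~)`, `Z = V(fs)`.
-/

set_option autoImplicit false

universe u

open CategoryTheory CategoryTheory.Limits AlgebraicGeometry Pretriangulated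
open scoped ZeroObject

attribute [local instance] HasDerivedCategory.standard

namespace K370.CechGamma

open Groth.Agent Groth.Agent.PerfB.KoszulOrth Groth.Agent.PerfB.KoszulOn Groth.Agent.PerfA
  Groth.Agent.LoccohB.LocTri Groth.Agent.LoccohB.FInv K231.Cech

section Abs

variable {D : Type*} [Category* D] [HasShift D ℤ] [Preadditive D]
  [∀ n : ℤ, (shiftFunctor D n).Additive] [HasZeroObject D] [Pretriangulated D]

instance isTriangulated_orth (K : D) : (orth K).IsTriangulated where
  exists_zero := ⟨0, isZero_zero _, fun n φ => (isZero_zero _).eq_of_tgt _ _⟩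
  isStableUnderShiftBy a := { le_shift := fun E h => orth.shift h a }
  ext₂' T hT h₁ h₃ := ObjectProperty.le_isoClosure _ _ (fun n φ => by
    obtain ⟨ψ, hψ⟩ := T.coyoneda_exact₂ hT φ (h₃ n _)
    rw [hψ, h₁ n ψ, zero_comp])

omit [∀ n : ℤ, (shiftFunctor D n).Additive] [HasZeroObject D] [Pretriangulated D] in
/-- A full functor commuting with shifts preserves orthogonality. -/
lemma orth_map {D' : Type*} [Category* D'] [HasShift D' ℤ] [Preadditive D']
    [∀ n : ℤ, (shiftFunctor D' n).Additive] (F : D ⥤ D') [F.CommShift ℤ] [F.Full]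
    [F.PreservesZeroMorphisms] {K E : D} (h : orth K E) : orth (F.obj K) (F.obj E) := fun n φ => by
  rw [← cancel_epi ((F.commShiftIso n).hom.app K), comp_zero]
  obtain ⟨ψ, hψ⟩ := F.map_surjective ((F.commShiftIso n).hom.app K ≫ φ)
  rw [← hψ, h n ψ, Functor.map_zero]

/-- Two objects which are fibres of the same morphism. -/
lemma nonempty_iso_of_dist {A A' B E : D} {f : A ⟶ B} {f' : A' ⟶ B} {g : B ⟶ E} {h : E ⟶ A⟦(1 : ℤ)⟧}
    {h' : E ⟶ A'⟦(1 : ℤ)⟧} (hT : Triangle.mk f g h ∈ distTriang D) (hT' : Triangle.mk f' g h' ∈ distTriang D) :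
    Nonempty (A ≅ A') := by
  obtain ⟨a, ha1, ha3⟩ := complete_distinguished_triangle_morphism₁ _ _ hT hT' (𝟙 B) (𝟙 E) (by
    change g ≫ 𝟙 _ = 𝟙 _ ≫ g
    rw [Category.comp_id, Category.id_comp])
  let φ : Triangle.mk f g h ⟶ Triangle.mk f' g h' :=
    { hom₁ := a, hom₂ := 𝟙 _, hom₃ := 𝟙 _
      comm₁ := ha1
      comm₂ := by
        change g ≫ 𝟙 _ = 𝟙 _ ≫ g
        rw [Category.comp_id, Category.id_comp]
      comm₃ := ha3 }
  have : IsIso a := isIso₁_of_isIso₂₃ φ hT hT' (inferInstanceAs (IsIso (𝟙 _))) (inferInstanceAs (IsIso (𝟙 _)))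
  exact ⟨@asIso _ _ _ _ a this⟩

end Abs

section Mod

variable {A : Type u} [CommRing A]

/-- Objects on which an element of the list acts invertibly are right orthogonal to the Koszul complex. -/
lemma orth_of_isIso_smul (fs : List A) (f : A) (hf : f ∈ fs) (C : Dual.D A) (hC : IsIso (f • 𝟙 C)) :
    orth (DerivedCategory.Q.obj (Koszul.koszul A fs)) C := by
  intro n φ
  obtain ⟨k, hk⟩ := exists_pow_smul_id_kosOn
    ((CochainComplex.singleFunctor (ModuleCat.{u} A) 0).obj (ModuleCat.of A A)) f fs hf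
  rw [kosOn_single_eq] at hk
  have h1 : f ^ k • 𝟙 ((DerivedCategory.Q.obj (Koszul.koszul A fs))⟦n⟧) = 0 := smul_id_shift _ _ n hk
  have h2 : f ^ k • φ = 0 := by
    rw [← Category.id_comp φ, ← Linear.smul_comp, h1, zero_comp]
  have h3 : ∀ k : ℕ, f ^ k • φ = 0 → φ = 0 := by
    intro k
    induction k with
    | zero =>
      intro h
      rwa [pow_zero, one_smul] at h
    | succ k ih =>
      intro h
      apply ih
      rw [← cancel_mono (f • 𝟙 C), Linear.comp_smul, Category.comp_id, zero_comp, smul_smul, ← pow_succ']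
      exact h
  exact h3 k h2

variable (M : ModuleCat.{u} A)

lemma elTor_extCech (l : List A) : ∀ f ∈ l, ∀ i, ElTor f (Dual.HD A (DRing.toD (DerCA.extCech M l)) i) := by
  induction l with
  | nil => simp
  | cons f l ih =>
    obtain ⟨α, γ, hT⟩ := step_tri f (DerCA.extCech M l)
    intro g hg i
    rcases List.mem_cons.1 hg with rfl | hg
    · exact elTor_of_fIso hT (fun j => fIso_homologyFunctor_locCη _ _ j) i
    · exact elTor_of_elTor hT (ih g hg) (elTor_locC f g _ (ih g hg)) i

lemma exists_trW (fs : List A) : ∀ l : List A, (∀ f ∈ l, f ∈ fs) →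
    ∃ π : DRing.toD (DerCA.extCech M l) ⟶ Dual.inD A M,
      (orth (DerivedCategory.Q.obj (Koszul.koszul A fs))).trW π
  | [], _ => by
      let e : DRing.toD (DerCA.extCech M []) ≅ Dual.inD A M :=
        ((DerivedCategory.singleFunctorIsoCompQ (ModuleCat.{u} A) 0).app M).symm
      exact ⟨e.hom, ObjectProperty.trW_of_isIso _ _⟩
  | f :: l, hl => by
      obtain ⟨π, hπ⟩ := exists_trW fs l fun g hg => hl g (List.mem_cons_of_mem _ hg)
      obtain ⟨α, γ, hT⟩ := step_tri f (DerCA.extCech M l)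
      have h1 : orth (DerivedCategory.Q.obj (Koszul.koszul A fs)) (DRing.toD (locC f (DerCA.extCech M l))) :=
        orth_of_isIso_smul fs f (hl f List.mem_cons_self) _ (isIso_smul_Q_locC f _)
      have h2 : (orth (DerivedCategory.Q.obj (Koszul.koszul A fs))).trW α := ObjectProperty.trW.mk _ hT h1
      exact ⟨α ≫ π, MorphismProperty.comp_mem _ _ _ h2 hπ⟩

end Mod

section Geom

variable (A : Type u) [CommRing A] (fs : List A) (M : ModuleCat.{u} A)
  [PreservesFiniteLimits (tilde.functor (CommRingCat.of A))]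

lemma isZero_restrictD_extCech : IsZero ((DCoh.restrictD (punct fs).ι).obj
    ((DCoh.tildeD (CommRingCat.of A)).obj (DRing.toD (DerCA.extCech M fs)))) := by
  refine (TildeSupp.isZero_restrictD_tildeD_iff (R := CommRingCat.of A) _ (punct fs).ι).2 fun i y => ?_
  obtain ⟨g, hg, hgy⟩ := exists_notMem fs ((punct fs).ι y) y.2
  exact (TildeSupp.forall_vanAt_iff (R := CommRingCat.of A) _ g).2 (elTor_extCech M fs g hg i) _ hgy

theorem nonempty_iso [CxOX.HasRgammaZ (punct fs).ι] :
    Nonempty ((DCoh.tildeD (CommRingCat.of A)).obj (DRing.toD (DerCA.extCech M fs)) ≅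
      (CxOX.RgammaZ (punct fs).ι).obj ((DCoh.tildeD (CommRingCat.of A)).obj (Dual.inD A M))) := by
  have : DCoh.HasRpush (punct fs).ι := Dcoh.DerSch.hasRpush _
  let adj : DCoh.restrictD (punct fs).ι ⊣ DCoh.Rpush (punct fs).ι := PerfB.OpenAdj.openAdj (punct fs).ι
  have hcou : IsIso adj.counit := PerfB.OpenAdj.isIso_openAdj_counit _
  obtain ⟨hfull, hfaith, hess⟩ := Groth.Agent.S0997.result (CommRingCat.of A)
  obtain ⟨π, hπ⟩ := exists_trW M fs fs fun f hf => hf
  obtain ⟨Z, g, h, hT, hZ⟩ := (ObjectProperty.trW_iff _ _).1 hπ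
  have hT' := (DCoh.tildeD (CommRingCat.of A)).map_distinguished _ hT
  have hZ' : orth ((DCoh.tildeD (CommRingCat.of A)).obj (DerivedCategory.Q.obj (Koszul.koszul A fs)))
      ((DCoh.tildeD (CommRingCat.of A)).obj Z) := orth_map _ hZ
  have hu : IsIso (adj.unit.app ((DCoh.tildeD (CommRingCat.of A)).obj Z)) :=
    isIso_unit_of_orth fs _ ((hess _).2 ⟨Z, ⟨Iso.refl _⟩⟩) hZ'
  have h1 := K478.GammaZ.dist_of_iso hT' (Iso.refl _) (Iso.refl _)
    (@asIso _ _ _ _ (adj.unit.app ((DCoh.tildeD (CommRingCat.of A)).obj Z)) hu)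
    (f' := (DCoh.tildeD (CommRingCat.of A)).map π) (by
      rw [Iso.refl_hom, Iso.refl_hom, Category.id_comp, Category.comp_id]
      rfl)
  obtain ⟨w', hw'⟩ := K478.GammaZ.exists_unit_triangle adj h1 (isZero_restrictD_extCech A fs M)
  obtain ⟨w, hw⟩ := K478.GammaZ.exists_triangle (punct fs).ι
    ((DCoh.tildeD (CommRingCat.of A)).obj (Dual.inD A M)) adj
  exact nonempty_iso_of_dist hw' hw

end Geom

end K370.CechGamma
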