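import Mathlib.Algebra.Module.FinitePresentation
import Mathlib.Algebra.Category.ModuleCat.Abelian
import Mathlib.Algebra.Homology.ShortComplex.ModuleCat
import Mathlib.Algebra.Homology.HomologicalComplex

/-!
# Coherent rings

Over a ring all of whose finitely generated ideals are finitely presented:

* `finitePresentation_submodule`: finitely generated submodules of finite projective modules are finitely presented;
* `finitePresentation_homology`: the homology of a complex of finite projective modules is finitely presented.
-/

set_option autoImplicit false

universe u

open CategoryTheory CategoryTheory.Limits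

namespace K370.CohRing

variable {R : Type u} [CommRing R] (hR : ∀ I : Ideal R, I.FG → Module.FinitePresentation R I)

include hR

/-- Finitely generated submodules of `Rⁿ` are finitely presented. -/
theorem finitePresentation_submodule_fin (n : ℕ) (N : Submodule R (Fin n → R)) (hN : N.FG) :
    Module.FinitePresentation R N := by
  induction n with
  | zero =>
    have : Subsingleton N := ⟨fun x y => Subtype.ext (Subsingleton.elim _ _)⟩
    have : Module.Finite R N := Module.Finite.iff_fg.2 hN
    exact Module.finitePresentation_of_projective R N
  | succ n ih =>
    have hNf : Module.Finite R N := Module.Finite.iff_fg.2 hN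
    let π : N →ₗ[R] R := (LinearMap.proj 0).comp N.subtype
    have hI : (LinearMap.range π).FG := by
      rw [LinearMap.range_eq_map]
      exact Module.Finite.fg_top.map π
    have h1 : Module.FinitePresentation R (LinearMap.range π) := hR (LinearMap.range π) hI
    have h2 : (LinearMap.ker π.rangeRestrict).FG :=
      Module.FinitePresentation.fg_ker π.rangeRestrict π.surjective_rangeRestrict
    -- the kernel embeds into `Rⁿ`
    let τ : (Fin (n + 1) → R) →ₗ[R] (Fin n → R) := LinearMap.funLeft R R Fin.succ
    let κ : LinearMap.ker π.rangeRestrict →ₗ[R] (Fin n → R) :=
      τ.comp (N.subtype.comp (LinearMap.ker π.rangeRestrict).subtype)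
    have hκ : Function.Injective κ := by
      rw [injective_iff_map_eq_zero]
      intro x hx
      have h0 : (x.1.1 : Fin (n + 1) → R) 0 = 0 := by
        have := x.2
        rw [LinearMap.mem_ker] at this
        exact congrArg Subtype.val this
      apply Subtype.ext
      apply Subtype.ext
      funext i
      refine Fin.cases ?_ (fun j => ?_) i
      · exact h0
      · exact congrFun hx j
    have h3 : Module.FinitePresentation R (LinearMap.range κ) := by
      refine ih _ ?_
      have : Module.Finite R (LinearMap.ker π.rangeRestrict) := Module.Finite.iff_fg.2 h2
      rw [LinearMap.range_eq_map]
      exact Module.Finite.fg_top.map κ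
    have h4 : Module.FinitePresentation R (LinearMap.ker π.rangeRestrict) :=
      Module.FinitePresentation.of_equiv (M := LinearMap.range κ) (N := LinearMap.ker π.rangeRestrict)
        (LinearEquiv.ofInjective κ hκ).symm
    exact Module.finitePresentation_of_ker π.rangeRestrict π.surjective_rangeRestrict

/-- Finitely generated submodules of finite projective modules are finitely presented. -/
theorem finitePresentation_submodule {P : Type*} [AddCommGroup P] [Module R P] [Module.Finite R P]
    [Module.Projective R P] (N : Submodule R P) (hN : N.FG) : Module.FinitePresentation R N := by
  obtain ⟨n, f, g, hf, hg, hfg⟩ := Module.Finite.exists_comp_eq_id_of_projective R P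
  have h1 := finitePresentation_submodule_fin hR n (N.map g) (hN.map g)
  exact Module.FinitePresentation.of_equiv (Submodule.equivMapOfInjective g hg N).symm

/-- The kernel of a map between finite projective modules is finitely presented. -/
theorem finitePresentation_ker {P Q : Type*} [AddCommGroup P] [Module R P] [Module.Finite R P]
    [Module.Projective R P] [AddCommGroup Q] [Module R Q] [Module.Finite R Q] [Module.Projective R Q]
    (f : P →ₗ[R] Q) : Module.FinitePresentation R (LinearMap.ker f) := by
  have h1 : Module.FinitePresentation R (LinearMap.range f) :=
    finitePresentation_submodule hR _ (by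
      rw [LinearMap.range_eq_map]
      exact Module.Finite.fg_top.map f)
  refine finitePresentation_submodule hR _ ?_
  rw [← LinearMap.ker_rangeRestrict]
  exact Module.FinitePresentation.fg_ker f.rangeRestrict f.surjective_rangeRestrict

/-- The homology of a short complex of finite projective modules is finitely presented. -/
theorem finitePresentation_homology (S : ShortComplex (ModuleCat.{u} R)) [Module.Finite R S.X₁]
    [Module.Finite R S.X₂] [Module.Projective R S.X₂] [Module.Finite R S.X₃] [Module.Projective R S.X₃] :
    Module.FinitePresentation R S.homology := by
  have h1 : Module.FinitePresentation R (LinearMap.ker S.g.hom) := finitePresentation_ker hR S.g.hom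
  have h2 : Module.FinitePresentation R
      (LinearMap.ker S.g.hom ⧸ LinearMap.range S.moduleCatToCycles) := by
    refine Module.finitePresentation_of_surjective (Submodule.mkQ _) (Submodule.mkQ_surjective _) ?_
    rw [Submodule.ker_mkQ, LinearMap.range_eq_map]
    exact Module.Finite.fg_top.map _
  have h3 : Module.FinitePresentation R S.moduleCatLeftHomologyData.H := h2
  exact Module.FinitePresentation.of_equiv S.moduleCatHomologyIso.symm.toLinearEquiv

end K370.CohRing
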