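import Mathlib.Algebra.Homology.Functor
import Mathlib.CategoryTheory.Adjunction.Evaluation
import Mathlib.CategoryTheory.Abelian.FunctorCategory
import Mathlib.CategoryTheory.Abelian.GrothendieckCategory.EnoughInjectives
import Mathlib.Algebra.Homology.DerivedCategory.DerivabilityStructureInjectives
import Mathlib.Algebra.Homology.Embedding.CochainComplex

/-!
# Injective resolutions of diagrams of complexes

Let `A` be a Grothendieck abelian category and `J` a small category.

* `enoughInjectives J A`: the category of diagrams `J ⥤ A` has enough injectives;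
* `injective_obj`: the values of an injective diagram are injective;
* `exists_resolution`: a diagram `C : J ⥤ CochainComplex A ℤ` of complexes whose cohomology vanishes below a common
  degree `n` admits a morphism `C ⟶ D` which is a quasi-isomorphism at every object, where all `D.obj j` are
  complexes of injective objects vanishing below `n`.
-/

set_option autoImplicit false

universe w u v v' u'

open CategoryTheory CategoryTheory.Limits

namespace K370.DiagInj

section Inj

variable (J : Type w) [SmallCategory J] (A : Type u) [Category.{v} A] [Abelian A]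
  [IsGrothendieckAbelian.{w} A]

lemma hasProducts : HasProducts.{w} A := fun _ => inferInstance

lemma hasCoproducts : HasCoproducts.{w} A := fun _ => inferInstance

variable {J A} in
/-- The diagram `k ↦ ∏_{k ⟶ j} I` is injective if `I` is. -/
lemma injective_rightAdjoint (j : J) (I : A) [Injective I] :
    Injective ((evaluationRightAdjoint A j).obj I) :=
  (evaluationAdjunctionLeft A j).map_injective I inferInstance

/-- The category of diagrams has enough injectives. -/
theorem enoughInjectives : EnoughInjectives (J ⥤ A) where
  presentation F := by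
    have := fun (k : J) => injective_rightAdjoint k (Injective.under (F.obj k))
    let E : J → (J ⥤ A) := fun k => (evaluationRightAdjoint A k).obj (Injective.under (F.obj k))
    have : ∀ k, Injective (E k) := this
    let i : F ⟶ ∏ᶜ E :=
      Pi.lift fun k => (evaluationAdjunctionLeft A k).homEquiv _ _ (Injective.ι (F.obj k))
    have hi : Mono i := by
      have : ∀ j, Mono (i.app j) := by
        intro j
        have h1 : i.app j ≫ (Pi.π E j).app j ≫ Pi.π (fun _ : j ⟶ j => Injective.under (F.obj j)) (𝟙 j) =
            Injective.ι (F.obj j) := by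
          rw [← Category.assoc, ← NatTrans.comp_app, Pi.lift_π]
          simp only [evaluationAdjunctionLeft, Adjunction.mkOfHomEquiv_homEquiv, Equiv.coe_fn_mk]
          refine (limit.lift_π _ _).trans ?_
          simp
        exact mono_of_mono_fac h1
      exact NatTrans.mono_of_mono_app _
    exact ⟨{ J := ∏ᶜ E, injective := inferInstance, f := i, mono := hi }⟩

variable {J A}

/-- The values of an injective diagram are injective. -/
theorem injective_obj (I : J ⥤ A) [Injective I] (j : J) : Injective (I.obj j) := by
  have : (evaluationLeftAdjoint A j).PreservesMonomorphisms := ⟨fun {X Y} f hf => by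
    have : ∀ k, Mono (((evaluationLeftAdjoint A j).map f).app k) := by
      intro k
      have h : ((evaluationLeftAdjoint A j).map f).app k =
          colim.map (Discrete.natTrans (F := Discrete.functor fun _ : j ⟶ k => X)
            (G := Discrete.functor fun _ : j ⟶ k => Y) (fun _ => f)) := by
        apply Sigma.hom_ext
        intro b
        refine (colimit.ι_desc _ _).trans ?_
        exact (colimit.ι_desc _ _).symm
      rw [h]
      have : ∀ b, Mono ((Discrete.natTrans (F := Discrete.functor fun _ : j ⟶ k => X)
            (G := Discrete.functor fun _ : j ⟶ k => Y) (fun _ => f)).app b) := fun _ => hf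
      have : Mono (Discrete.natTrans (F := Discrete.functor fun _ : j ⟶ k => X)
            (G := Discrete.functor fun _ : j ⟶ k => Y) (fun _ => f)) := NatTrans.mono_of_mono_app _
      have : HasExactColimitsOfShape (Discrete (j ⟶ k)) A := inferInstance
      have h3 : PreservesFiniteLimits (colim : (Discrete (j ⟶ k) ⥤ A) ⥤ A) :=
        HasExactColimitsOfShape.preservesFiniteLimits
      have : (colim : (Discrete (j ⟶ k) ⥤ A) ⥤ A).PreservesMonomorphisms := inferInstance
      exact (colim : (Discrete (j ⟶ k) ⥤ A) ⥤ A).map_mono _
    exact NatTrans.mono_of_mono_app _⟩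
  exact (evaluationAdjunctionRight A j).map_injective I inferInstance

end Inj

section Cx

variable {J : Type w} [SmallCategory J] {A : Type u} [Category.{v} A] [Abelian A]

/-- A diagram of complexes as a complex of diagrams. -/
@[simps]
def toCx (C : J ⥤ CochainComplex A ℤ) : CochainComplex (J ⥤ A) ℤ where
  X i := C ⋙ HomologicalComplex.eval A (ComplexShape.up ℤ) i
  d i j :=
    { app := fun t => (C.obj t).d i j
      naturality := fun _ _ f => (C.map f).comm i j }
  shape i j h := by
    ext t
    exact (C.obj t).shape i j h
  d_comp_d' i j k _ _ := by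
    ext t
    exact (C.obj t).d_comp_d i j k

/-- Truncation of a diagram of complexes. -/
@[simps]
noncomputable def truncGE (C : J ⥤ CochainComplex A ℤ) (n : ℤ) : J ⥤ CochainComplex A ℤ where
  obj j := (C.obj j).truncGE n
  map f := CochainComplex.truncGEMap (C.map f) n
  map_id j := by simp
  map_comp f g := by simp

/-- The morphism to the truncation. -/
@[simps]
noncomputable def πTruncGE (C : J ⥤ CochainComplex A ℤ) (n : ℤ) : C ⟶ truncGE C n where
  app j := (C.obj j).πTruncGE n
  naturality _ _ f := (CochainComplex.πTruncGE_naturality (C.map f) n).symm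

/-- Resolutions of diagrams of strictly bounded below complexes. -/
theorem exists_resolution_strict [IsGrothendieckAbelian.{w} A] (C : J ⥤ CochainComplex A ℤ) (n : ℤ)
    (hC : ∀ j, (C.obj j).IsStrictlyGE n) :
    ∃ (D : J ⥤ CochainComplex A ℤ) (φ : C ⟶ D), (∀ j, QuasiIso (φ.app j)) ∧
      (∀ j, (D.obj j).IsStrictlyGE n) ∧ ∀ j p, Injective ((D.obj j).X p) := by
  have := enoughInjectives J A
  have hK : (toCx C).IsStrictlyGE n := by
    rw [CochainComplex.isStrictlyGE_iff]
    intro i hi
    rw [Functor.isZero_iff]
    intro j
    have := hC j
    exact (C.obj j).isZero_of_isStrictlyGE n i hi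
  obtain ⟨L, s, hs, hL, hLn⟩ :=
    CochainComplex.Plus.modelCategoryQuillen.exists_quasiIso_injective (toCx C) n
  let ψ : (toCx C).asFunctor ⟶ L.asFunctor :=
    HomologicalComplex.complexOfFunctorsToFunctorToComplex.map s
  refine ⟨L.asFunctor, (show C ⟶ L.asFunctor from ψ), fun j => ?_, fun j => ?_, fun j p => ?_⟩
  · exact (HomologicalComplex.quasiIso_iff_evaluation s).1 hs j
  · rw [CochainComplex.isStrictlyGE_iff]
    intro i hi
    have := (L.isZero_of_isStrictlyGE n i hi)
    rw [Functor.isZero_iff] at this
    exact this j
  · have := hL p
    exact injective_obj (L.X p) j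

/-- Resolutions of diagrams of complexes with cohomology vanishing below `n`. -/
theorem exists_resolution [IsGrothendieckAbelian.{w} A] (C : J ⥤ CochainComplex A ℤ) (n : ℤ)
    (hC : ∀ j, (C.obj j).IsGE n) :
    ∃ (D : J ⥤ CochainComplex A ℤ) (φ : C ⟶ D), (∀ j, QuasiIso (φ.app j)) ∧
      (∀ j, (D.obj j).IsStrictlyGE n) ∧ ∀ j p, Injective ((D.obj j).X p) := by
  obtain ⟨D, φ, h1, h2, h3⟩ := exists_resolution_strict (truncGE C n) n (fun j =>
    inferInstanceAs (((C.obj j).truncGE n).IsStrictlyGE n))
  refine ⟨D, πTruncGE C n ≫ φ, fun j => ?_, h2, h3⟩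
  have := h1 j
  have := hC j
  rw [NatTrans.comp_app]
  have : QuasiIso ((πTruncGE C n).app j) := inferInstanceAs (QuasiIso ((C.obj j).πTruncGE n))
  infer_instance

end Cx

end K370.DiagInj
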