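import Mathlib.RingTheory.Spectrum.Prime.FreeLocus
import Mathlib.RingTheory.LocalRing.Module
import Mathlib.Algebra.Homology.HomologicalComplex
import Mathlib.Algebra.Category.ModuleCat.Abelian
import Mathlib.Algebra.Homology.ShortComplex.ModuleCat
import Mathlib.RingTheory.Flat.Basic
import Mathlib.Algebra.BigOperators.Finprod
import Mathlib.LinearAlgebra.Dimension.Constructions
import Mathlib.Algebra.Homology.Embedding.CochainComplex
import Mathlib.Algebra.Ring.NegOnePow

/-!
# The Euler characteristic of a strictly perfect complex with small support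

* `sum_finrank_eq_zero`: the alternating sum of the ranks in a bounded exact complex of finite free modules over a
  local ring vanishes;
* `euler_eq_zero`: the alternating sum of the ranks of a bounded complex of finite projective modules vanishes at a
  prime `q` at which the cohomology vanishes.
-/

set_option autoImplicit false

universe u v

open CategoryTheory CategoryTheory.Limits

namespace K370.EulerZero

section Loc

variable {R : Type u} [CommRing R] [IsLocalRing R] (N : ℤ → Type v) [∀ i, AddCommGroup (N i)]
  [∀ i, Module R (N i)] [∀ i, Module.Finite R (N i)] [∀ i, Module.Projective R (N i)]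
  (d : ∀ i, N i →ₗ[R] N (i + 1)) (hex : ∀ i, Function.Exact (d i) (d (i + 1)))

include hex

/-- The exact sequence `0 → Z i → N i → Z (i + 1) → 0` splits when `Z (i+1)` is projective. -/
lemma split_step (i : ℤ) (h : Module.Projective R (LinearMap.ker (d (i + 1)))) :
    Nonempty (N i ≃ₗ[R] LinearMap.ker (d i) × LinearMap.ker (d (i + 1))) := by
  have hc : ∀ x, d i x ∈ LinearMap.ker (d (i + 1)) := fun x => (hex i (d i x)).2 ⟨x, rfl⟩
  let g : N i →ₗ[R] LinearMap.ker (d (i + 1)) := (d i).codRestrict _ hc
  have hg : Function.Surjective g := by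
    rintro ⟨y, hy⟩
    obtain ⟨x, hx⟩ := (hex i y).1 hy
    exact ⟨x, Subtype.ext hx⟩
  obtain ⟨l, hl⟩ := Module.projective_lifting_property g LinearMap.id hg
  have hgk : Function.Exact (LinearMap.ker (d i)).subtype g := by
    intro x
    constructor
    · intro hx
      exact ⟨⟨x, congrArg Subtype.val hx⟩, rfl⟩
    · rintro ⟨⟨x, hx⟩, rfl⟩
      exact Subtype.ext hx
  exact ⟨(hgk.splitSurjectiveEquiv Subtype.val_injective ⟨l, hl⟩).1⟩

/-- All the cycle modules are finite projective. -/
lemma projective_ker (b : ℤ) (hb : ∀ i, b < i → Subsingleton (N i)) (i : ℤ) :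
    Module.Finite R (LinearMap.ker (d i)) ∧ Module.Projective R (LinearMap.ker (d i)) := by
  have key : ∀ (k : ℕ) (i : ℤ), b - k < i →
      Module.Finite R (LinearMap.ker (d i)) ∧ Module.Projective R (LinearMap.ker (d i)) := by
    intro k
    induction k with
    | zero =>
      intro i hi
      have := hb i (by simpa using hi)
      have : Subsingleton (LinearMap.ker (d i)) := inferInstance
      exact ⟨inferInstance, inferInstance⟩
    | succ k ih =>
      intro i hi
      obtain ⟨h1, h2⟩ := ih (i + 1) (by push_cast at hi; lia)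
      obtain ⟨e⟩ := split_step N d hex i h2
      refine ⟨?_, ?_⟩
      · exact Module.Finite.of_surjective
          ((LinearMap.fst R (LinearMap.ker (d i)) (LinearMap.ker (d (i + 1)))).comp e.toLinearMap)
          (Prod.fst_surjective.comp e.surjective)
      · exact Module.Projective.of_split
          (e.symm.toLinearMap.comp (LinearMap.inl R (LinearMap.ker (d i)) (LinearMap.ker (d (i + 1)))))
          ((LinearMap.fst R (LinearMap.ker (d i)) (LinearMap.ker (d (i + 1)))).comp e.toLinearMap)
          (by ext x; simp)
  exact key (b - i).toNat.succ i (by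
    have := Int.self_le_toNat (b - i)
    push_cast
    lia)

/-- The alternating sum of ranks of a bounded exact complex of finite projective modules over a local ring. -/
theorem sum_finrank_eq_zero (s : Finset ℤ) (hs : ∀ i, i ∉ s → Subsingleton (N i)) :
    (s.sum fun i => ((i.negOnePow : ℤˣ) : ℤ) * (Module.finrank R (N i) : ℤ)) = 0 := by
  obtain ⟨b, hb⟩ : ∃ b : ℤ, ∀ i ∈ s, i ≤ b := s.exists_le
  have hZ := projective_ker N d hex b (fun i hi => hs i (fun h => absurd (hb i h) (by lia)))
  have hfr : ∀ i, Module.Free R (LinearMap.ker (d i)) := fun i => by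
    obtain ⟨_, _⟩ := hZ i
    exact Module.free_of_flat_of_isLocalRing
  have hfin : ∀ i, Module.Finite R (LinearMap.ker (d i)) := fun i => (hZ i).1
  let z : ℤ → ℤ := fun i => (Module.finrank R (LinearMap.ker (d i)) : ℤ)
  let f : ℤ → ℤ := fun i => ((i.negOnePow : ℤˣ) : ℤ) * z i
  have hN : ∀ i, (Module.finrank R (N i) : ℤ) = z i + z (i + 1) := by
    intro i
    obtain ⟨e⟩ := split_step N d hex i (hZ (i + 1)).2
    have := hfr i
    have := hfr (i + 1)
    have := hfin i
    have := hfin (i + 1)
    rw [e.finrank_eq, Module.finrank_prod]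
    push_cast
    rfl
  have hf : ∀ i, ((i.negOnePow : ℤˣ) : ℤ) * (Module.finrank R (N i) : ℤ) = f i - f (i + 1) := by
    intro i
    rw [hN]
    simp only [f, Int.negOnePow_succ]
    push_cast
    ring
  have h0 : ∀ i, i ∉ s → z i = 0 ∧ z (i + 1) = 0 := by
    intro i hi
    have := hs i hi
    have h1 : Module.finrank R (N i) = 0 := Module.finrank_zero_of_subsingleton
    have h2 := hN i
    rw [h1] at h2
    have h3 : 0 ≤ z i := Int.natCast_nonneg _
    have h4 : 0 ≤ z (i + 1) := Int.natCast_nonneg _
    push_cast at h2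
    lia
  rw [Finset.sum_congr rfl (fun i _ => hf i), Finset.sum_sub_distrib]
  have e1 : ∑ᶠ i, f i = ∑ i ∈ s, f i := finsum_eq_sum_of_support_subset _ (by
    intro i hi
    by_contra h
    exact hi (by simp only [f]; rw [(h0 i h).1, mul_zero]))
  have e2 : ∑ᶠ i, f (i + 1) = ∑ i ∈ s, f (i + 1) := finsum_eq_sum_of_support_subset _ (by
    intro i hi
    by_contra h
    exact hi (by simp only [f]; rw [(h0 i h).2, mul_zero]))
  have e3 : ∑ᶠ i, f (i + 1) = ∑ᶠ i, f i := finsum_comp_equiv (Equiv.addRight (1 : ℤ))
  rw [← e1, ← e2, e3, sub_self]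

end Loc

section Main

variable {A : Type u} [CommRing A] (P : CochainComplex (ModuleCat.{u} A) ℤ)

/-- A cycle becomes a boundary after multiplication by an element of `S`. -/
lemma exists_smul_mem (S : Submonoid A) (i : ℤ) (h : Subsingleton (LocalizedModule S (P.homology (i + 1))))
    (z : P.X (i + 1)) (hz : (P.d (i + 1) (i + 1 + 1)).hom z = 0) :
    ∃ (u : S) (y : P.X i), (P.d i (i + 1)).hom y = u • z := by
  let T := P.sc' i (i + 1) (i + 1 + 1)
  let e : P.homology (i + 1) ≅ T.moduleCatLeftHomologyData.H :=
    ShortComplex.homologyMapIso (P.isoSc' i (i + 1) (i + 1 + 1) (by simp) (by simp)) ≪≫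
      T.moduleCatHomologyIso
  let z' : LinearMap.ker T.g.hom := ⟨z, hz⟩
  let c : T.moduleCatLeftHomologyData.H := (LinearMap.range T.moduleCatToCycles).mkQ z'
  have h1 : LocalizedModule.mk (e.inv.hom c) (1 : S) = LocalizedModule.mk 0 1 := Subsingleton.elim _ _
  obtain ⟨u, hu⟩ := LocalizedModule.mk_eq.1 h1
  refine ⟨u, ?_⟩
  have h2 : e.inv.hom ((u : A) • c) = 0 := by
    rw [map_smul]
    rw [one_smul, one_smul, smul_zero] at hu
    exact hu
  have h3 : (u : A) • c = 0 := by
    have := congrArg e.hom.hom h2
    rw [map_zero] at this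
    rw [← this]
    change _ = (e.inv ≫ e.hom).hom _
    rw [Iso.inv_hom_id]
    rfl
  have h4 : (u : A) • z' ∈ LinearMap.range T.moduleCatToCycles := by
    rw [← Submodule.Quotient.mk_eq_zero]
    exact h3
  obtain ⟨y, hy⟩ := h4
  exact ⟨y, congrArg Subtype.val hy⟩

/-- The localized complex is exact where the localized cohomology vanishes. -/
lemma exact_localized (S : Submonoid A) (i : ℤ) (h : Subsingleton (LocalizedModule S (P.homology (i + 1)))) :
    Function.Exact (LocalizedModule.map S (P.d i (i + 1)).hom)
      (LocalizedModule.map S (P.d (i + 1) (i + 1 + 1)).hom) := by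
  intro y
  constructor
  · intro hy
    induction y using LocalizedModule.induction_on with
    | _ m t =>
    rw [LocalizedModule.map_mk, ← LocalizedModule.zero_mk t, LocalizedModule.mk_eq] at hy
    obtain ⟨a, ha⟩ := hy
    rw [smul_zero, smul_zero] at ha
    obtain ⟨u, x, hx⟩ := exists_smul_mem P S i h ((a * t) • m) (by
      change (P.d (i + 1) (i + 1 + 1)).hom (((a * t : S) : A) • m) = 0
      rw [map_smul]
      change ((a : A) * (t : A)) • _ = (0 : P.X (i + 1 + 1))
      rw [mul_smul]
      exact ha)
    refine ⟨LocalizedModule.mk x (u * (a * t) * t), ?_⟩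
    rw [LocalizedModule.map_mk, hx, LocalizedModule.mk_eq]
    refine ⟨1, ?_⟩
    have h5 : t * u * (a * t) = u * (a * t) * t := by
      rw [mul_comm t u, mul_assoc, mul_comm t, ← mul_assoc]
    rw [one_smul, one_smul, ← h5]
    exact (mul_smul t u ((a * t) • m)).symm.trans (mul_smul (t * u) (a * t) m).symm
  · rintro ⟨x, rfl⟩
    induction x using LocalizedModule.induction_on with
    | _ m t =>
    rw [LocalizedModule.map_mk, LocalizedModule.map_mk]
    have : (P.d (i + 1) (i + 1 + 1)).hom ((P.d i (i + 1)).hom m) = 0 := by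
      change (P.d i (i + 1) ≫ P.d (i + 1) (i + 1 + 1)).hom m = 0
      rw [P.d_comp_d]
      rfl
    rw [this, LocalizedModule.zero_mk]

/-- The alternating sum of the ranks at a prime where the cohomology vanishes. -/
theorem euler_eq_zero (s : Finset ℤ)
    (hP : ∀ i : ℤ, Module.Finite A (P.X i) ∧ Module.Projective A (P.X i))
    (hs : ∀ i : ℤ, i ∉ s → IsZero (P.X i)) (q : PrimeSpectrum A)
    (h : ∀ i : ℤ, Subsingleton (LocalizedModule q.asIdeal.primeCompl (P.homology i))) :
    (s.sum fun i => ((i.negOnePow : ℤˣ) : ℤ) * (Module.rankAtStalk (R := A) (P.X i) q : ℤ)) = 0 := by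
  have hfin : ∀ i, Module.Finite A (P.X i) := fun i => (hP i).1
  have hproj : ∀ i, Module.Projective A (P.X i) := fun i => (hP i).2
  have h1 : ∀ i, Module.Finite (Localization q.asIdeal.primeCompl)
      (LocalizedModule q.asIdeal.primeCompl (P.X i)) := fun i => inferInstance
  have h2 : ∀ i, Module.Projective (Localization q.asIdeal.primeCompl)
      (LocalizedModule q.asIdeal.primeCompl (P.X i)) := fun i => inferInstance
  have h3 : IsLocalRing (Localization q.asIdeal.primeCompl) :=
    inferInstanceAs (IsLocalRing (Localization.AtPrime q.asIdeal))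
  refine sum_finrank_eq_zero (R := Localization q.asIdeal.primeCompl)
    (fun i => LocalizedModule q.asIdeal.primeCompl (P.X i))
    (fun i => LocalizedModule.map q.asIdeal.primeCompl (P.d i (i + 1)).hom)
    (fun i => exact_localized P _ i (h (i + 1))) s (fun i hi => ?_)
  have : Subsingleton (P.X i) := ModuleCat.subsingleton_of_isZero (hs i hi)
  refine ⟨fun x y => ?_⟩
  induction x using LocalizedModule.induction_on with
  | _ m t =>
  induction y using LocalizedModule.induction_on with
  | _ m' t' =>
  rw [Subsingleton.elim m 0, Subsingleton.elim m' 0, LocalizedModule.zero_mk, LocalizedModule.zero_mk]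

end Main

end K370.EulerZero
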