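import Groth.Agent.Perf.K370.NeemanFactor
import Groth.Agent.PerfA.PerfThick
import Groth.Agent.PerfA.CompactSupp
import Groth.Agent.PerfC.SuppGenMain
import Groth.Agent.CohtopA.ExactDer

/-!
# Morphisms from perfect objects to objects supported on a closed subset

* `exists_factor`: `X` quasi-compact and quasi-separated, `T` closed with quasi-compact complement, `K` perfect, `C`
  with quasi-coherent cohomology supported on `T`: every morphism `K ⟶ C` factors through a perfect object supported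
  on `T`.
* `exists_perfect_kill`: for `φ : K ⟶ C` as above there are a perfect `I` and `i : I ⟶ K` with `i ≫ φ = 0` and `i|_U`
  an isomorphism, `U = X ∖ T`.
-/

set_option autoImplicit false
universe u
open CategoryTheory CategoryTheory.Limits AlgebraicGeometry CategoryTheory.Pretriangulated
open scoped ZeroObject
attribute [local instance] HasDerivedCategory.standard

namespace K370.FactorSupp

open Groth.Agent Groth.Agent.PerfA Groth.Agent.PerfC.Excision

variable {X : Scheme.{u}}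

lemma isZero_restrictD_coproduct (U : X.Opens) {ι : Type u} (K : ι → DCoh.D X) [HasCoproduct K]
    (h : ∀ i, IsZero ((DCoh.restrictD U.ι).obj (K i))) : IsZero ((DCoh.restrictD U.ι).obj (∐ K)) := by
  have := Dcoh.DerSch.isGrothendieckAbelian X
  have := Dcoh.DerSch.isGrothendieckAbelian (U : Scheme.{u})
  have h1 : PreservesColimitsOfShape (Discrete ι) (DCoh.restrictD U.ι) :=
    CohtopA.ExactDer.preservesCoproducts_mapDerivedCategory _ ι
  let hc : IsColimit ((DCoh.restrictD U.ι).mapCocone (Cofan.mk _ (Sigma.ι K))) :=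
    isColimitOfPreserves _ (coproductIsCoproduct K)
  rw [IsZero.iff_id_eq_zero]
  exact hc.hom_ext fun i => (h i.as).eq_of_src _ _

lemma suppP_iff (U : X.Opens) (K : DCoh.D X) : suppP ((U : Set X)ᶜ) K ↔ IsZero ((DCoh.restrictD U.ι).obj K) :=
  CompactSupp.supp_subset_iff U K

theorem exists_factor [CompactSpace X] [QuasiSeparatedSpace X] (U : X.Opens) (hU : IsCompact (U : Set X))
    {K C : DCoh.D X} (hK : DCoh.IsPerfect K) (hC : DCoh.IsQCohD C)
    (hCU : IsZero ((DCoh.restrictD U.ι).obj C)) (φ : K ⟶ C) :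
    ∃ (Z : DCoh.D X) (a : K ⟶ Z) (b : Z ⟶ C), DCoh.IsPerfect Z ∧ IsZero ((DCoh.restrictD U.ι).obj Z) ∧ a ≫ b = φ := by
  obtain ⟨G, hG, hGs, hgen⟩ := Groth.Agent.PerfC.SuppGen.sgen X ((U : Set X)ᶜ) U.2.isClosed_compl (by rwa [compl_compl])
  have : HasCoproducts.{u} (DCoh.D X) := fun J => inferInstance
  let Q : ObjectProperty (DCoh.D X) := DCoh.IsQCohD (X := X) ⊓ suppP ((U : Set X)ᶜ)
  let P : ObjectProperty (DCoh.D X) := PerfTri.perf X ⊓ suppP ((U : Set X)ᶜ)
  obtain ⟨Z, hZ, a, b, hab⟩ := K370.NeemanFactor.factorsThru (Q := Q) (P := P) (J := PUnit.{u + 1})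
    (fun ι L hL => ⟨Groth.Agent.S1040.result X L fun i => (hL i).1,
      (suppP_iff U _).2 (isZero_restrictD_coproduct U L fun i => (suppP_iff U _).1 (hL i).2)⟩)
    (fun _ => G) (fun _ => ⟨QCohD.isQCohD_of_isPerfect G hG, hGs⟩)
    (fun _ m L hL => PerfThick.small_hom _ (PerfLocal.isPerfect_shift hG m) L hL.1)
    (fun L hL h => hgen L hL.1 hL.2 fun n φ => h PUnit.unit n φ)
    (fun Z hZ => CompactRel.isCompactObjRel_mono (fun L hL => hL.1) (PerfCompact.isCompactObjRel_of_isPerfect Z hZ.1))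
    (fun _ => ⟨hG, hGs⟩) C ⟨hC, (suppP_iff U _).2 hCU⟩ K
    (CompactRel.isCompactObjRel_mono (fun L hL => hL.1) (PerfCompact.isCompactObjRel_of_isPerfect K hK)) φ
  exact ⟨Z, a, b, hZ.1, (suppP_iff U Z).1 hZ.2, hab⟩

theorem exists_perfect_kill [CompactSpace X] [QuasiSeparatedSpace X] (U : X.Opens) (hU : IsCompact (U : Set X))
    {K C : DCoh.D X} (hK : DCoh.IsPerfect K) (hC : DCoh.IsQCohD C)
    (hCU : IsZero ((DCoh.restrictD U.ι).obj C)) (φ : K ⟶ C) :
    ∃ (I : DCoh.D X) (i : I ⟶ K), DCoh.IsPerfect I ∧ i ≫ φ = 0 ∧ IsIso ((DCoh.restrictD U.ι).map i) := by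
  obtain ⟨Z, a, b, hZ, hZU, rfl⟩ := exists_factor U hU hK hC hCU φ
  obtain ⟨I, i, d, hT⟩ := distinguished_cocone_triangle₁ a
  refine ⟨I, i, ?_, ?_, ?_⟩
  · exact (PerfTri.perf X).ext_of_isTriangulatedClosed₁ _ hT hK hZ
  · have h0 : i ≫ a = 0 := comp_distTriang_mor_zero₁₂ _ hT
    rw [← Category.assoc, h0, zero_comp]
  · exact (Triangle.isZero₃_iff_isIso₁ _ ((DCoh.restrictD U.ι).map_distinguished _ hT)).1 hZU

end K370.FactorSupp
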