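import Groth.Agent.Dcoh.DerPush2
import Groth.Agent.Dcoh.PushRestrict
import Groth.Agent.Dcoh.KFlatMod
import Groth.Agent.Dcoh.LocalFree
import Groth.Agent.Dcoh.Spread
import Groth.Agent.Dcoh.Restrict
import Groth.Agent.PerfB.SecGamma

/-!
# Direct images of K-injective complexes are acyclic for sections

* `acyclic_gammaCx`: global sections of an acyclic weakly K-injective complex are acyclic;
* `isIso_gammaUnit_of_wkInj`: `Γ(X, J) ⟶ RΓ(X, J)` is an isomorphism for `J` weakly K-injective.
-/

set_option autoImplicit false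

universe u v

open CategoryTheory CategoryTheory.Limits AlgebraicGeometry Pretriangulated Opposite

attribute [local instance] HasDerivedCategory.standard

namespace K370.GammaAcyc

open Groth.Agent Groth.Agent.Dcoh.DerAbs Groth.Agent.Dcoh.DerHo Groth.Agent.Dcoh.DerAdj
  Groth.Agent.Dcoh.DerComp Groth.Agent.Dcoh.DerSch Groth.Agent.Dcoh.WKInj Groth.Agent.Dcoh.DerPull

section Abs

open Groth.Agent.PerfA.Hyp0

variable {C : Type u} [Category.{v} C] [Abelian C]

/-- A cocycle whose class in the homotopy category vanishes is a coboundary. -/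
lemma exists_of_quotient_eq_zero {G : C} {I : CochainComplex C ℤ} {m n : ℤ}
    (hn : n + 1 = m) (z : G ⟶ I.X m) (hz : z ≫ I.d m (m + 1) = 0)
    (h1 : (HomotopyCategory.quotient C (.up ℤ)).map (cocycleHom z hz) = 0) :
    ∃ y : G ⟶ I.X n, y ≫ I.d n m = z := by
  have h2 : Homotopy (cocycleHom z hz) 0 := HomotopyCategory.homotopyOfEq _ _ (by
    rw [h1, Functor.map_zero])
  have h3 := (CochainComplex.HomComplex.Cochain.equivHomotopy
    (F := (CochainComplex.singleFunctor C m).obj G) (cocycleHom z hz) 0) h2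
  obtain ⟨α, hα⟩ := h3
  obtain ⟨y, rfl⟩ := CochainComplex.HomComplex.Cochain.fromSingleMk_surjective α n (by lia)
  refine ⟨y, ?_⟩
  rw [CochainComplex.HomComplex.Cochain.δ_fromSingleMk y _ 0 m (by lia),
    CochainComplex.HomComplex.Cochain.ofHom_zero, add_zero, ofHom_cocycleHom] at hα
  exact ((CochainComplex.HomComplex.Cochain.fromSingleEquiv (add_zero m)).symm.injective hα).symm

end Abs

variable {X : Scheme.{u}}

/-- Global sections of an acyclic weakly K-injective complex are acyclic. -/
theorem acyclic_gammaCx (J : CochainComplex X.Modules ℤ)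
    (hJ : wkInj X ((HomotopyCategory.quotient _ _).obj J)) (hJ' : J.Acyclic) :
    (PerfB.SecGamma.gammaCx X J).Acyclic := by
  intro j
  rw [HomologicalComplex.exactAt_iff' _ (j - 1) j (j + 1) (by simp) (by simp), ShortComplex.ab_exact_iff]
  intro a ha
  change Γ(J.X j, ⊤) at a
  change (J.d j (j + 1)).app ⊤ a = 0 at ha
  change ∃ b : Γ(J.X (j - 1), ⊤), (J.d (j - 1) j).app ⊤ b = a
  let z : Coh.structureModule X ⟶ J.X j := Dcoh.Restrict.unitHom a
  have hz : z ≫ J.d j (j + 1) = 0 := by
    apply (Dcoh.Restrict.unitEquiv _).injective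
    rw [Dcoh.Restrict.unitEquiv_comp, map_zero, ← ha]
    exact congrArg ((J.d j (j + 1)).app ⊤) (Dcoh.Restrict.unitHom_app_one a)
  have hK : kFlatHo X ((HomotopyCategory.quotient _ _).obj
      ((HomologicalComplex.single X.Modules (ComplexShape.up ℤ) j).obj (Coh.structureModule X))) :=
    Dcoh.KFlatMod.isKFlat_single _ (Dcoh.Spread.isFlat_of_isFinLocFree Dcoh.LocalFree.isFinLocFree_structureModule) j
  have h0 := (kFlatCls X).eq_zero hJ
    ((HomotopyCategory.quotient_obj_mem_subcategoryAcyclic_iff_acyclic _).2 hJ') hK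
    ((HomotopyCategory.quotient _ _).map (PerfA.Hyp0.cocycleHom z hz))
  obtain ⟨y, hy⟩ := exists_of_quotient_eq_zero (n := j - 1) (by lia) z hz h0
  refine ⟨Dcoh.Restrict.unitEquiv _ y, ?_⟩
  rw [← Dcoh.Restrict.unitEquiv_comp, hy]
  exact Dcoh.Restrict.unitHom_app_one a

/-- `Γ(X, -)` is computed by weakly K-injective complexes. -/
lemma gammaData : RightData (𝟭 _) (qis X.Modules) (DCoh.gammaKh X) (wkInj X) where
  full := inferInstance
  essSurj := inferInstance
  frac := (rightData (hasKInj X) (DCoh.gammaKh X)).frac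
  respectsIso := inferInstance
  map_eq f g hfg := by
    obtain rfl : f = g := hfg
    rfl
  exists_res X := by
    obtain ⟨I, f, hI, hf⟩ := (rightData (hasKInj _) (DCoh.gammaKh _)).exists_res X
    exact ⟨I, f, kInj_le _ _ hI, hf⟩
  isIso_map {J₁ J₂} w h₁ h₂ hw := by
    obtain ⟨C, g, k, hT⟩ := Pretriangulated.distinguished_cocone_triangle w
    have hC : HomotopyCategory.subcategoryAcyclic X.Modules C := (qis_iff_of_distTriang hT).1 hw
    have := (kFlatCls X).wInj_isTriangulated
    have hC' : wkInj X C := (wkInj X).ext_of_isTriangulatedClosed₃ _ hT h₁ h₂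
    have hC2 : HomotopyCategory.subcategoryAcyclic AddCommGrpCat.{u}
        (((DCoh.gammaAb X).mapHomotopyCategory (ComplexShape.up ℤ)).obj C) := by
      change HomotopyCategory.subcategoryAcyclic X.Modules ((HomotopyCategory.quotient _ _).obj C.as) at hC
      rw [HomotopyCategory.quotient_obj_mem_subcategoryAcyclic_iff_acyclic] at hC
      have := acyclic_gammaCx C.as hC' hC
      rw [← HomotopyCategory.quotient_obj_mem_subcategoryAcyclic_iff_acyclic] at this
      exact this
    have hT2 := ((DCoh.gammaAb X).mapHomotopyCategory (ComplexShape.up ℤ)).map_distinguished _ hT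
    have hw2 : qis AddCommGrpCat.{u} (((DCoh.gammaAb X).mapHomotopyCategory (ComplexShape.up ℤ)).map w) :=
      (qis_iff_of_distTriang hT2).2 hC2
    exact Localization.inverts DerivedCategory.Qh (qis AddCommGrpCat.{u}) _ hw2

/-- `Γ(X, J) ⟶ RΓ(X, J)` is an isomorphism for `J` weakly K-injective. -/
theorem isIso_gammaUnit_of_wkInj [DCoh.HasRΓ X] (J : HomotopyCategory X.Modules (ComplexShape.up ℤ))
    (hJ : wkInj X J) :
    IsIso (((DCoh.gammaKh X).totalRightDerivedUnit DerivedCategory.Qh
      (HomotopyCategory.quasiIso X.Modules (ComplexShape.up ℤ))).app J) :=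
  (gammaData (X := X)).isIso_app (W₀ := qis X.Modules) (DerivedCategory.Qh.leftUnitor)
    (fun _ hw ↦ hw) (DCoh.RΓ X) _ J hJ

/-- The restriction to an open of the direct image of a K-injective complex is weakly K-injective. -/
theorem wkInj_restrict_push {X Y : Scheme.{u}} (f : X ⟶ Y) (B : CochainComplex X.Modules ℤ)
    (hB : B.IsKInjective) (U : Y.Opens) :
    wkInj (U : Scheme.{u}) ((HomotopyCategory.quotient _ _).obj ((DCoh.restrictCx U).obj
      (((Scheme.Modules.pushforward f).mapHomologicalComplex (ComplexShape.up ℤ)).obj B))) := by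
  have h1 := isKInjective_restrict (f ⁻¹ᵁ U).ι B hB
  have h2 := wkInj_pushforward (f ∣_ U) _ (kInj_le _ _ (kInj_quotient_obj _ h1))
  let e := Dcoh.PushRestrict.pushRestrictIsoOfIsPullback f (f ∣_ U) (f ⁻¹ᵁ U).ι U.ι
    (isPullback_morphismRestrict f U).flip
  let e' := (NatIso.mapHomologicalComplex e (ComplexShape.up ℤ)).app B
  exact (wkInj (U : Scheme.{u})).prop_of_iso ((HomotopyCategory.quotient _ _).mapIso e'.symm) h2

end K370.GammaAcyc
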