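import Groth.Agent.CohtopB.CoprodTriangle
import Groth.Agent.Dual3.K478.GammaZ
import Groth.Agent.S1000
import Groth.Agent.CohtopA.ExactDer
import Groth.Agent.PerfB.CoprodDerived
import Groth.Agent.PerfB.ModExactCoprod
import Groth.Agent.PerfA.QCohD

/-!
# `RΓ_Z` and direct sums

* `isIso_desc`: abstract form: if `G K → K → R L K` are distinguished triangles, `L` kills the `G K` and `L ⋙ R`
  preserves a coproduct, so does `G`.
* `isIso_desc_RgammaZ`: `RΓ_Z` preserves direct sums of objects with quasi-coherent cohomology.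
-/

set_option autoImplicit false

universe w v v' u u'

open CategoryTheory CategoryTheory.Limits AlgebraicGeometry Pretriangulated

attribute [local instance] HasDerivedCategory.standard

namespace K370.GammaSum

open Groth.Agent Groth.Agent.CohtopB.CoprodTriangle

section Abs

variable {C : Type u} [Category.{v} C] [HasZeroObject C] [Preadditive C] [HasShift C ℤ]
  [∀ n : ℤ, (shiftFunctor C n).Additive] [Pretriangulated C]
  {D : Type u'} [Category.{v'} D] [Preadditive D] {L : C ⥤ D} {R : D ⥤ C} (adj : L ⊣ R)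
  {G : C ⥤ C} (t : G ⟶ 𝟭 C)
  (htri : ∀ K, ∃ w, Triangle.mk (t.app K) (adj.unit.app K) w ∈ distTriang C)
  (hzero : ∀ K, IsZero (L.obj (G.obj K)))
  (hinj : ∀ M, IsZero (L.obj M) → ∀ K, Function.Injective (fun φ : M ⟶ G.obj K => φ ≫ t.app K))
  {ι : Type w} (E : ι → C) [HasCoproduct E] [HasCoproduct (fun i => G.obj (E i))]
  [HasCoproduct (fun i => (L ⋙ R).obj (E i))]
  [PreservesColimit (Discrete.functor (fun i => G.obj (E i))) L]
  [PreservesColimit (Discrete.functor E) (L ⋙ R)]

include adj htri hzero hinj in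
theorem isIso_desc : IsIso (Sigma.desc fun i => G.map (Sigma.ι E i)) := by
  choose w hw using fun i => htri (E i)
  let T : ι → Triangle C := fun i => Triangle.mk (t.app (E i)) (adj.unit.app (E i)) (w i)
  have : HasCoproduct (fun i => (T i).obj₁) := ‹HasCoproduct (fun i => G.obj (E i))›
  have : HasCoproduct (fun i => (T i).obj₂) := ‹HasCoproduct E›
  have : HasCoproduct (fun i => (T i).obj₃) := ‹HasCoproduct (fun i => (L ⋙ R).obj (E i))›
  have hT := coproductTriangle_distinguished T hw
  obtain ⟨w', hw'⟩ := htri (∐ E)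
  have hs : IsIso (sigmaComparison (L ⋙ R) E) := inferInstance
  let c : (∐ fun i => (T i).obj₃) ⟶ (L ⋙ R).obj (∐ E) := sigmaComparison (L ⋙ R) E
  have hc : Limits.Sigma.map (fun i => (T i).mor₂) ≫ c = adj.unit.app (∐ E) := by
    refine Limits.Sigma.hom_ext _ _ fun i => ?_
    rw [Limits.Sigma.ι_map_assoc]
    refine (congrArg (fun s => adj.unit.app (E i) ≫ s) (ι_comp_sigmaComparison (L ⋙ R) E i)).trans ?_
    exact (adj.unit.naturality (Sigma.ι E i)).symm
  obtain ⟨a, ha1, ha3⟩ := complete_distinguished_triangle_morphism₁ (coproductTriangle T)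
    (Triangle.mk (t.app (∐ E)) (adj.unit.app (∐ E)) w') hT hw' (𝟙 _) c
    (hc.trans (Category.id_comp _).symm)
  let φ : coproductTriangle T ⟶ Triangle.mk (t.app (∐ E)) (adj.unit.app (∐ E)) w' :=
    { hom₁ := a, hom₂ := 𝟙 _, hom₃ := c
      comm₁ := ha1
      comm₂ := hc.trans (Category.id_comp _).symm
      comm₃ := ha3 }
  have ha : IsIso a := isIso₁_of_isIso₂₃ φ hT hw' (inferInstanceAs (IsIso (𝟙 _))) hs
  have hM : IsZero (L.obj (∐ fun i => G.obj (E i))) := by
    let hc : IsColimit (L.mapCocone (Cofan.mk _ (Sigma.ι fun i => G.obj (E i)))) :=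
      isColimitOfPreserves L (coproductIsCoproduct fun i => G.obj (E i))
    rw [IsZero.iff_id_eq_zero]
    exact hc.hom_ext fun i => (hzero (E i.as)).eq_of_src _ _
  have h2 : Sigma.desc (fun i => G.map (Sigma.ι E i)) = a := by
    refine hinj _ hM (∐ E) ?_
    change _ ≫ t.app _ = a ≫ t.app _
    refine Eq.trans ?_ (ha1.symm.trans (Category.comp_id _)).symm
    refine Limits.Sigma.hom_ext _ _ fun i => ?_
    refine Eq.trans (Category.assoc _ _ _).symm (Eq.trans (congrArg (fun s => s ≫ t.app (∐ E))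
      (Limits.Sigma.ι_desc (fun i => G.map (Sigma.ι E i)) i)) ?_)
    refine (t.naturality (Sigma.ι E i)).trans ?_
    exact (Limits.Sigma.ι_map (fun i => (T i).mor₁) i).symm
  rw [h2]
  exact ha

end Abs

/-- `RΓ_Z` preserves direct sums of objects with quasi-coherent cohomology. -/
theorem isIso_desc_RgammaZ {U X : Scheme.{u}} (j : U ⟶ X) [IsOpenImmersion j] [QuasiCompact j]
    [CxOX.HasRgammaZ j] {ι : Type u} (E : ι → DCoh.D X) (hE : ∀ i, DCoh.IsQCohD (E i)) [HasCoproduct E]
    [HasCoproduct (fun i => (CxOX.RgammaZ j).obj (E i))] :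
    IsIso (Sigma.desc (fun i => (CxOX.RgammaZ j).map (Sigma.ι E i))) := by
  have := Dcoh.DerSch.isGrothendieckAbelian X
  have := Dcoh.DerSch.isGrothendieckAbelian U
  have : DCoh.HasRpush j := Dcoh.DerSch.hasRpush j
  let adj : DCoh.restrictD j ⊣ DCoh.Rpush j := Dcoh.DerSch.restrictAdj j
  have : HasCoproducts.{u} (DCoh.D X) := fun J => inferInstance
  have h1 : PreservesColimitsOfShape (Discrete ι) (DCoh.restrictD j) :=
    CohtopA.ExactDer.preservesCoproducts_mapDerivedCategory _ ι
  have h3 : PreservesColimit (Discrete.functor E ⋙ DCoh.restrictD j) (DCoh.Rpush j) := by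
    have h4 : PreservesColimit (Discrete.functor fun i => (DCoh.restrictD j).obj (E i)) (DCoh.Rpush j) := by
      have h5 : ∀ i, DCoh.IsQCohD ((DCoh.restrictD j).obj (E i)) := fun i => Groth.Agent.PerfA.QCohD.isQCohD_restrictD j (hE i)
      have : IsIso (sigmaComparison (DCoh.Rpush j) fun i => (DCoh.restrictD j).obj (E i)) :=
        Groth.Agent.S1000.result j _ h5
      exact PreservesCoproduct.of_iso_comparison (DCoh.Rpush j) _
    exact @preservesColimit_of_iso_diagram _ _ _ _ _ _ _ _ _ (Discrete.compNatIsoDiscrete E _).symm h4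
  have h6 : PreservesColimit (Discrete.functor E) (DCoh.restrictD j ⋙ DCoh.Rpush j) :=
    comp_preservesColimit _ _
  exact isIso_desc adj (CxOX.RgammaZToId j) (fun K => K478.GammaZ.exists_triangle j K adj)
    (fun K => K478.GammaZ.isZero_restrictD_RgammaZ j K)
    (fun M hM K => (K478.GammaZ.bijective_comp_RgammaZToId j hM K).1) E

end K370.GammaSum
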