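import Groth.Agent.PerfA.Neeman

/-!
# Morphisms from compact objects factor through objects built from compact generators

`factorsThru`: a version of `PerfA.Neeman.factorsThru_id` for morphisms `K ⟶ C`, `C` in `Q` and `K` compact relative
to `Q` but not necessarily in `Q`.
-/

set_option autoImplicit false

universe w v u

open CategoryTheory CategoryTheory.Limits CategoryTheory.Pretriangulated ZeroObject

namespace K370.NeemanFactor

open Groth.Agent.CohtopA.Compact Groth.Agent.PerfA.CompactRel Groth.Agent.PerfA.Neeman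

variable {T : Type u} [Category.{v} T] [Preadditive T] [HasZeroObject T] [HasShift T ℤ]
  [∀ n : ℤ, (shiftFunctor T n).Additive] [Pretriangulated T]
  {Q : ObjectProperty T} [Q.IsTriangulated] [Q.IsClosedUnderIsomorphisms]
  {P : ObjectProperty T} [P.IsTriangulated] [P.IsClosedUnderIsomorphisms]

/-- A morphism from a compact object `K` (relative to `Q`, but not necessarily in `Q`) to an object of `Q` factors
through an object reachable from the compact generators of `Q`. -/
theorem factorsThru [HasCoproducts.{w} T]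
    (hQ : ∀ (ι : Type w) (X : ι → T), (∀ i, Q (X i)) → Q (∐ X))
    {J : Type w} (G : J → T) (hG : ∀ j, Q (G j))
    (hsmall : ∀ (j : J) (m : ℤ) (X : T), Q X → Small.{w} ((G j)⟦m⟧ ⟶ X))
    (hgen : ∀ X, Q X → (∀ (j : J) (m : ℤ) (φ : (G j)⟦m⟧ ⟶ X), φ = 0) → IsZero X)
    (hP : ∀ Z, P Z → PerfAux.IsCompactObjRel.{w} Q Z) (hGP : ∀ j, P (G j))
    (C : T) (hC : Q C) (K : T) (hC' : PerfAux.IsCompactObjRel.{w} Q K) (φ : K ⟶ C) : FactorsThru P φ := by
  choose next hnext f κ a m y z hT h0 using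
    exists_next.{w} hQ G hG hsmall
  let X : ℕ → {X : T // Q X} := fun n =>
    Nat.rec ⟨C, hC⟩ (fun _ X => ⟨next X.1 X.2, hnext X.1 X.2⟩) n
  let F : ∀ n, (X n).1 ⟶ (X (n + 1)).1 := fun n => f (X n).1 (X n).2
  have : HasCoproducts.{0} T := hasCoproducts_shrink.{0, w}
  let c : Cofan (fun n => (X n).1) := Cofan.mk _ (Sigma.ι (fun n => (X n).1))
  let hc : IsColimit c := coproductIsCoproduct _
  have hQc : Q c.pt := by
    have e : c.pt ≅ ∐ (fun i : Shrink.{w} ℕ => (X ((equivShrink.{w} ℕ).symm i)).1) :=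
      (isColimitShrinkCofan.{w} hc).coconePointUniqueUpToIso (coproductIsCoproduct _)
    exact Q.prop_of_iso e.symm (hQ _ _ (fun i => (X _).2))
  let S : c.pt ⟶ c.pt := Cofan.IsColimit.desc hc (fun n => F n ≫ c.inj (n + 1))
  have hS : ∀ n, c.inj n ≫ S = F n ≫ c.inj (n + 1) := fun n => by
    simp only [S, Cofan.IsColimit.fac]
  obtain ⟨L, q, δ, hL⟩ := distinguished_cocone_triangle (𝟙 c.pt - S)
  have hQL : Q L := Q.ext_of_isTriangulatedClosed₃ _ hL hQc hQc
  have hSq : (𝟙 c.pt - S) ≫ q = 0 := comp_distTriang_mor_zero₁₂ _ hL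
  have hSq' : S ≫ q = q := by
    rw [Preadditive.sub_comp, Category.id_comp, sub_eq_zero] at hSq
    exact hSq.symm
  have hcG : ∀ (j : J) (m : ℤ), PerfAux.IsCompactObjRel.{w} Q ((G j)⟦m⟧) := fun j m =>
    hP _ (P.le_shift m _ (hGP j))
  -- the homotopy colimit vanishes
  have hLz : IsZero L := by
    refine hgen L hQL (fun j m ψ => ?_)
    -- first, `ψ ≫ δ = 0`
    have hδ : ψ ≫ δ = 0 := by
      let c1 : Cofan (fun n => ((X n).1)⟦(1 : ℤ)⟧) :=
        Cofan.mk (c.pt⟦(1 : ℤ)⟧) (fun n => (c.inj n)⟦(1 : ℤ)⟧')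
      have hc1 : IsColimit c1 :=
        isColimitCofanMkObjOfIsColimit (shiftFunctor T (1 : ℤ)) _ _ hc
      have hS1 : ∀ n, c1.inj n ≫ S⟦(1 : ℤ)⟧' = (F n)⟦(1 : ℤ)⟧' ≫ c1.inj (n + 1) := by
        intro n
        have := congrArg (fun t => t⟦(1 : ℤ)⟧') (hS n)
        simpa [c1] using this
      refine eq_zero_of_comp_shift_eq (F := fun n => (F n)⟦(1 : ℤ)⟧') hc1 hS1 (ψ ≫ δ)
        (isFiniteSum_of_small (hcG j m) (fun n => Q.le_shift (1 : ℤ) _ (X n).2) hc1 _) ?_
      have h1 : δ ≫ (𝟙 c.pt - S)⟦(1 : ℤ)⟧' = 0 := comp_distTriang_mor_zero₃₁ _ hL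
      rw [Functor.map_sub, CategoryTheory.Functor.map_id, Preadditive.comp_sub,
        Category.comp_id, sub_eq_zero] at h1
      exact (Category.assoc _ _ _).trans (congrArg (fun t => ψ ≫ t) h1.symm)
    obtain ⟨θ, rfl⟩ := coyo₃ hL ψ hδ
    obtain ⟨s, g, rfl⟩ := isFiniteSum_of_small (hcG j m) (fun n => (X n).2) hc θ
    rw [Preadditive.sum_comp]
    refine Finset.sum_eq_zero (fun i _ => ?_)
    rw [← hSq', ← Category.assoc, Category.assoc (g i), hS i, ← Category.assoc (g i)]
    have : g i ≫ F i = 0 := h0 (X i).1 (X i).2 j m (g i)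
    rw [this, zero_comp, zero_comp]
  -- hence `1 - S` is an isomorphism
  have hiso : IsIso (𝟙 c.pt - S) := (Triangle.isZero₃_iff_isIso₁ _ hL).1 hLz
  obtain ⟨x, hx⟩ : ∃ x : K ⟶ c.pt, x ≫ (𝟙 c.pt - S) = φ ≫ c.inj 0 :=
    ⟨(φ ≫ c.inj 0) ≫ inv (𝟙 c.pt - S), by rw [Category.assoc, IsIso.inv_hom_id, Category.comp_id]⟩
  rw [Preadditive.comp_sub, Category.comp_id] at hx
  have hx0 : x ≫ proj hc 0 = φ := by
    have := congrArg (fun t => t ≫ proj hc 0) hx
    simp only [Preadditive.sub_comp, Category.assoc, shift_proj_zero hc hS, comp_zero,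
      sub_zero] at this
    refine this.trans ((congrArg (fun t => φ ≫ t) (inj_proj_self hc 0)).trans ?_)
    exact Category.comp_id φ
  have hxs : ∀ n, x ≫ proj hc (n + 1) = (x ≫ proj hc n) ≫ F n := by
    intro n
    have := congrArg (fun t => t ≫ proj hc (n + 1)) hx
    simp only [Preadditive.sub_comp, Category.assoc, shift_proj_succ hc hS] at this
    rw [Category.assoc, ← sub_eq_zero]
    refine this.trans ((congrArg (fun t => φ ≫ t) (inj_proj_of_ne hc _ _ (Nat.succ_ne_zero n).symm)).trans ?_)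
    exact comp_zero
  obtain ⟨s, hs, -⟩ := (isFiniteSum_of_small hC' (fun n => (X n).2) hc x).eq_sum_proj hc
  obtain ⟨N, hN⟩ : ∃ N, N ∉ s := Infinite.exists_notMem_finset s
  -- descending induction
  have key : ∀ k n, n + k = N → FactorsThru P (x ≫ proj hc n) := by
    intro k
    induction k with
    | zero =>
      intro n hn
      obtain rfl : n = N := by omega
      rw [hs n hN]
      exact FactorsThru.zero _ _ _
    | succ k ih =>
      intro n hn
      have h1 := ih (n + 1) (by omega)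
      rw [hxs] at h1
      exact factorsThru_of_comp hP
        (G := fun k => (G (a (X n).1 (X n).2 k))⟦m (X n).1 (X n).2 k⟧)
        (fun k => P.le_shift _ _ (hGP _)) (fun k => Q.le_shift _ _ (hG _))
        (coproductIsCoproduct _) _ _ _ (hT (X n).1 (X n).2) hC' _ h1
  have := key N 0 (by omega)
  rw [hx0] at this
  exact this

end K370.NeemanFactor
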