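import Groth.Agent.PerfA.PcFlatPush
import Groth.Agent.PerfA.TensDev
import Groth.Agent.PerfA.PerfTri
import Groth.Agent.PerfA.ExtPC
import Groth.Agent.PerfB.StupidK
import Groth.Agent.PerfC.DTens
import Groth.Agent.PerfC.LTXRestr
import Groth.Agent.PerfC.RHomBnd556
import Groth.Agent.PerfC.ProjAbs291
import Groth.Agent.PerfC.RHomPush
import Groth.Agent.PerfC.RelFlat
import Groth.Agent.PerfB.ApproxSupp
import Groth.Agent.Dcoh.FTFP
import Groth.Agent.S1065
import Groth.Agent.Models2.FPCoh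
import Groth.Agent.FormalA.ProperOver
import Groth.Agent.Ega3B.FlatRestrict
import Groth.Agent.PerfC.FPSections

/-!
# Derived pushforward of `E ⊗ᴸ G` with `E` pseudo-coherent and `G` bounded above, flat and proper over the base
-/

set_option autoImplicit false
universe u
open CategoryTheory CategoryTheory.Limits CategoryTheory.Pretriangulated AlgebraicGeometry
attribute [local instance] HasDerivedCategory.standard

namespace K370.PcProper
open Groth.Agent Groth.Agent.PerfA.Restrict Groth.Agent.PerfA.PerfLocal Groth.Agent.PerfB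
open Groth.Agent.PerfC Groth.Agent.PerfC.DTens

variable {X S : Scheme.{u}}

/-- The conditions on the terms of the kernel. -/
structure Good (f : X ⟶ S) (G : X.Modules) : Prop where
  fp : CohB1.IsFP G
  flat : FlatMod.IsFlatOver f G
  supp : ClSub.IsProperOver f (CohB1.support G)

theorem Good.of_iso {f : X ⟶ S} {G G' : X.Modules} (h : Good f G) (e : G ≅ G') : Good f G' :=
  ⟨Dcoh.FTFP.isFP_of_iso e h.fp, RelFlat.isFlatOver_of_iso f e h.flat, by
    rw [← ApproxSupp.support_iso e]; exact h.supp⟩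

/-- Bounded kernels: the derived pushforward is perfect. -/
theorem isPerfect_bounded (f : X ⟶ S) [LocallyOfFinitePresentation f] [QuasiCompact f] [QuasiSeparated f]
    [DCoh.HasRpush f] (P : DCoh.D X) (hP : DCoh.IsPerfect P) (K : CochainComplex X.Modules ℤ) (a b : ℤ)
    (hK : DCoh.VanishesOutside K a b) (hG : ∀ i : ℤ, Good f (K.X i) ∨ IsZero (K.X i))
    [DCoh.HasLTensorCx K] : DCoh.IsPerfect ((DCoh.Rpush f).obj ((DCoh.LTensorCx K).obj P)) := by
  let _ := Dcoh.DerSch.rpushCommShift f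
  have := Dcoh.DerSch.rpush_isTriangulated f
  refine PerfA.TensDev.prop_of_terms ((PerfA.PerfTri.perf S).inverseImage (DCoh.Rpush f)) K a b hK P ?_
  intro i hi
  rcases hG i with h | h
  · exact S1065.result f P hP (K.X i) h.fp h.flat h.supp
  · obtain ⟨P', hP', ⟨e⟩⟩ := PerfA.TensDev.exists_rep P
    have := hasLTensorCx P'
    obtain ⟨e'⟩ := RHomPush.nonempty_inD_iso (K.X i) hP'
    have hz : IsZero ((DCoh.inD X (K.X i))) := by
      exact (DerivedCategory.singleFunctor X.Modules 0).map_isZero h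
    obtain ⟨_, _⟩ := isTriang_LTensorCx P'
    have h1 : IsZero ((DCoh.LTensorMod (K.X i)).obj P) :=
      ((DCoh.LTensorCx P').map_isZero hz).of_iso (e' ≪≫ (DCoh.LTensorMod (K.X i)).mapIso e).symm
    exact ((PerfA.PerfTri.perf S).inverseImage (DCoh.Rpush f)).prop_of_isZero h1

/-- The cone of a morphism which is an isomorphism on high cohomology. -/
theorem isLE_cone {P E C : DCoh.D X} {α : P ⟶ E} {g : E ⟶ C} {h : C ⟶ P⟦(1 : ℤ)⟧}
    (hT : Triangle.mk α g h ∈ distTriang (DCoh.D X)) (c : ℤ)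
    (hiso : ∀ i : ℤ, c < i → IsIso ((DerivedCategory.homologyFunctor X.Modules i).map α)) : C.IsLE c := by
  rw [DerivedCategory.isLE_iff]
  intro i hi
  have h1 := (DerivedCategory.HomologySequence.epi_homologyMap_mor₁_iff _ hT i).1
    (by have := hiso i hi; exact inferInstanceAs (Epi ((DerivedCategory.homologyFunctor _ i).map α)))
  have h2 := (DerivedCategory.HomologySequence.mono_homologyMap_mor₁_iff _ hT i (i + 1) rfl).1
    (by have := hiso (i + 1) (by lia)
        exact inferInstanceAs (Mono ((DerivedCategory.homologyFunctor _ (i + 1)).map α)))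
  exact (DerivedCategory.HomologySequence.exact₃ _ hT i (i + 1) rfl).isZero_of_both_zeros h1 h2

theorem isQCohD_of_good {f : X ⟶ S} (G : CochainComplex X.Modules ℤ)
    (hG : ∀ i : ℤ, Good f (G.X i) ∨ IsZero (G.X i)) : DCoh.IsQCohD (DerivedCategory.Q.obj G) :=
  PerfA.QCohD.isQCohD_Q_of_terms G fun i => by
    rcases hG i with h | h
    · exact Groth.Agent.Models2.FPCoh.isQCoh_of_isFP h.fp
    · exact PerfA.QCohSerre.isQCoh_of_isZero h

/-- The perfect case over a quasi-compact base. -/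
theorem pc_of_isPerfect [CompactSpace ↥S] [QuasiSeparatedSpace ↥S] (f : X ⟶ S)
    [LocallyOfFinitePresentation f] [QuasiCompact f] [QuasiSeparated f] [DCoh.HasRpush f]
    (P : DCoh.D X) (hP : DCoh.IsPerfect P) (G : CochainComplex X.Modules ℤ) (b : ℤ)
    (hGb : ∀ i : ℤ, b < i → IsZero (G.X i)) (hG : ∀ i : ℤ, Good f (G.X i)) (m : ℤ) :
    DCoh.IsPseudoCoherentD m ((DCoh.Rpush f).obj (((LTX X).obj P).obj (DerivedCategory.Q.obj G))) := by
  have : CompactSpace X := QuasiCompact.compactSpace_of_compactSpace f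
  have hPq := PerfA.PCohQCoh.isQCohD_of_isPerfect hP
  obtain ⟨p, hp⟩ := PerfA.ExtPC.exists_isLE_of_isPseudoCoherentD
    (PerfA.PCohQCoh.isPseudoCoherentD_of_isPerfect hP 0)
  obtain ⟨N, hN⟩ := PerfA.PcFlatPush.exists_bound f
  let k : ℤ := m - N - p
  have hS := StupidK.shortExact_S G k
  have hT := DerivedCategory.triangleOfSES_distinguished hS
  obtain ⟨c1, t1⟩ := isTriang_LTX_obj P
  let _ := Dcoh.DerSch.rpushCommShift f
  have := Dcoh.DerSch.rpush_isTriangulated f
  have hT1 := ((LTX X).obj P).map_distinguished _ hT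
  have hT2 := (DCoh.Rpush f).map_distinguished _ hT1
  refine (S0889.result m _ hT2).2.1 ?_ ?_
  · have := hasLTensorCx (Dcoh.Sigma.sig G k)
    have h1 := isPerfect_bounded f P hP (Dcoh.Sigma.sig G k) k b (fun i hi => by
      rcases lt_or_ge i k with h | h
      · exact Dcoh.Sigma.isZero_sig_X G (by lia)
      · exact (hGb i (by lia)).of_iso (Dcoh.Sigma.sigXIso G h)) (fun i => by
      rcases lt_or_ge i k with h | h
      · exact Or.inr (Dcoh.Sigma.isZero_sig_X G (by lia))
      · exact Or.inl ((hG i).of_iso (Dcoh.Sigma.sigXIso G h).symm))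
    exact isPseudoCoherentD_of_iso ((DCoh.Rpush f).mapIso (LTXcxObj P (Dcoh.Sigma.sig G k)).symm)
      (PerfA.PCohQCoh.isPseudoCoherentD_of_isPerfect h1 m)
  · have hq : DCoh.IsQCohD (DerivedCategory.Q.obj (StupidK.quo G k)) :=
      isQCohD_of_good (f := f) _ fun i => by
        rcases lt_or_ge i k with h | h
        · exact Or.inl ((hG i).of_iso (StupidK.quoXIso G h).symm)
        · exact Or.inr (StupidK.isZero_quo_X G h)
    have hle : (DerivedCategory.Q.obj (StupidK.quo G k)).IsLE (k - 1) := by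
      rw [DerivedCategory.isLE_Q_obj_iff]
      infer_instance
    have hle2 : (((LTX X).obj P).obj (DerivedCategory.Q.obj (StupidK.quo G k))).IsLE (p + (k - 1)) :=
      RHomBnd556.isLE_LTX P (DerivedCategory.Q.obj (StupidK.quo G k)) p (k - 1)
    exact PcLocal.pc_of_vanish fun i hi => hN (p + (k - 1)) _
      (ProjAbs291.isQCohD_LTX hPq hq) hle2 i (by simp only [k]; lia)

/-- The case of a quasi-compact and quasi-separated base. -/
theorem pc_of_compact [CompactSpace ↥S] [QuasiSeparatedSpace ↥S] (f : X ⟶ S)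
    [LocallyOfFinitePresentation f] [QuasiCompact f] [QuasiSeparated f] [DCoh.HasRpush f]
    (E : DCoh.D X) (hE : ∀ m : ℤ, DCoh.IsPseudoCoherentD m E) (G : CochainComplex X.Modules ℤ) (b : ℤ)
    (hGb : ∀ i : ℤ, b < i → IsZero (G.X i)) (hG : ∀ i : ℤ, Good f (G.X i)) (m : ℤ) :
    DCoh.IsPseudoCoherentD m ((DCoh.Rpush f).obj (((LTX X).obj E).obj (DerivedCategory.Q.obj G))) := by
  have : CompactSpace X := QuasiCompact.compactSpace_of_compactSpace f
  have : QuasiSeparatedSpace X := quasiSeparatedSpace_of_quasiSeparated f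
  have hEq := PerfA.PCohQCoh.isQCohD_of_isPseudoCoherentD hE
  have hGq : DCoh.IsQCohD (DerivedCategory.Q.obj G) := isQCohD_of_good (f := f) G fun i => Or.inl (hG i)
  have hGle : (DerivedCategory.Q.obj G).IsLE b := by
    rw [DerivedCategory.isLE_Q_obj_iff]
    have : G.IsStrictlyLE b := by
      rw [CochainComplex.isStrictlyLE_iff]
      exact hGb
    infer_instance
  obtain ⟨r, hr⟩ := S1103.result X Set.univ isClosed_univ (by rw [Set.compl_univ]; exact isCompact_empty)
  obtain ⟨N, hN⟩ := PerfA.PcFlatPush.exists_bound f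
  obtain ⟨P, α, hP, -, hiso, hepi⟩ := hr (m - N - b) E hEq (hE _) (fun _ _ => Set.subset_univ _)
  obtain ⟨C, g, h, hT⟩ := distinguished_cocone_triangle α
  have hPq := PerfA.PCohQCoh.isQCohD_of_isPerfect hP
  have hCq : DCoh.IsQCohD C := PerfA.QCohD.isQCohD_ext₃ _ hT hPq hEq
  have hC : C.IsLE (m - N - b) := isLE_cone hT _ hiso
  obtain ⟨c1, t1⟩ := isTriang_LTX_flip_obj (DerivedCategory.Q.obj G)
  let _ := Dcoh.DerSch.rpushCommShift f
  have := Dcoh.DerSch.rpush_isTriangulated f
  have hT1 := ((LTX X).flip.obj (DerivedCategory.Q.obj G)).map_distinguished _ hT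
  have hT2 := (DCoh.Rpush f).map_distinguished _ hT1
  refine (S0889.result m _ hT2).2.1 (pc_of_isPerfect f P hP G b hGb hG m) ?_
  have hle2 : (((LTX X).obj C).obj (DerivedCategory.Q.obj G)).IsLE (m - N - b + b) :=
    RHomBnd556.isLE_LTX C (DerivedCategory.Q.obj G) (m - N - b) b
  exact PcLocal.pc_of_vanish fun i hi => hN (m - N - b + b) _
    (ProjAbs291.isQCohD_LTX hCq hGq) hle2 i (by lia)

/-- Main theorem. -/
theorem main (f : X ⟶ S)
    [LocallyOfFinitePresentation f] [QuasiCompact f] [QuasiSeparated f] [DCoh.HasRpush f]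
    (E : DCoh.D X) (hE : ∀ m : ℤ, DCoh.IsPseudoCoherentD m E) (G : CochainComplex X.Modules ℤ) (b : ℤ)
    (hGb : ∀ i : ℤ, b < i → IsZero (G.X i)) (hG : ∀ i : ℤ, Good f (G.X i)) [DCoh.HasLTensorCx G] (m : ℤ) :
    DCoh.IsPseudoCoherentD m ((DCoh.Rpush f).obj ((DCoh.LTensorCx G).obj E)) := by
  refine isPseudoCoherentD_of_restrictD_opens m _ fun s => ?_
  obtain ⟨V, hV, hsV⟩ : ∃ V : S.Opens, IsAffineOpen V ∧ s ∈ V := by
    obtain ⟨V, hV, hsV, -⟩ := S.isBasis_affineOpens.exists_subset_of_mem_open (Set.mem_univ s) isOpen_univ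
    obtain ⟨V, hV, rfl⟩ := hV
    exact ⟨V, hV, hsV⟩
  refine ⟨V, hsV, ?_⟩
  have : IsAffine (V : Scheme.{u}) := hV
  have : DCoh.HasRpush (f ∣_ V) := Dcoh.DerSch.hasRpush _
  obtain ⟨e⟩ := PerfA.PcFlatPush.nonempty_restrictD_Rpush f V ((DCoh.LTensorCx G).obj E)
  let j := (f ⁻¹ᵁ V).ι
  let G' := ((Scheme.Modules.restrictFunctor j).mapHomologicalComplex (ComplexShape.up ℤ)).obj G
  let e1 : (restrictD j).obj ((DCoh.LTensorCx G).obj E) ≅
      ((LTX _).obj ((restrictD j).obj E)).obj (DerivedCategory.Q.obj G') :=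
    (restrictD j).mapIso (LTXcxObj E G).symm ≪≫ LTXRestr.restrTensObj j E (DerivedCategory.Q.obj G) ≪≫
      ((LTX _).obj ((restrictD j).obj E)).mapIso
        ((Scheme.Modules.restrictFunctor j).mapDerivedCategoryFactors.app G)
  refine isPseudoCoherentD_of_iso ((DCoh.Rpush (f ∣_ V)).mapIso e1.symm ≪≫ e.symm) ?_
  refine pc_of_compact (f ∣_ V) _ (fun m => isPseudoCoherentD_restrictD j (hE m)) G' b
    (fun i hi => (Scheme.Modules.restrictFunctor j).map_isZero (hGb i hi)) (fun i => ?_) m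
  refine ⟨FPSections.isFP_restrict j (hG i).fp, ?_, ?_⟩
  · exact Ega3B.FlatRestrict.isFlatOver_restrict f (f ∣_ V) j V.ι
      (isPullback_morphismRestrict f V).w.symm (G.X i) (hG i).flat
  · have h := FormalA.ProperOver.isProperOver_baseChange f V.ι j (f ∣_ V)
      (isPullback_morphismRestrict f V).flip _ (hG i).supp
    rw [← Supp.support_restrict] at h
    exact h

end K370.PcProper
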