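import Groth.Agent.PerfA.HypPush2
import Groth.Agent.PerfA.PCohQCoh
import Groth.Agent.PerfA.ExtPC
import Groth.Agent.PerfA.QCohD
import Groth.Agent.PerfC.RpushTrunc
import Groth.Agent.Cohder.PCTri2
import Groth.Agent.Dcoh.StrPerf

/-!
# Pseudo-coherence of `Rf_*` from the bounded case
-/

set_option autoImplicit false

universe u

open CategoryTheory CategoryTheory.Limits AlgebraicGeometry Pretriangulated

attribute [local instance] HasDerivedCategory.standard

namespace K370.PcPush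

open ZeroObject

open Groth.Agent

variable {X Y : Scheme.{u}}

/-- An object whose cohomology vanishes in degrees `≥ n` is `n`-pseudo-coherent. -/
lemma isPseudoCoherentD_of_isZero (n : ℤ) (K : DCoh.D X) (h : ∀ i, n ≤ i → IsZero (DCoh.HD K i)) :
    DCoh.IsPseudoCoherentD n K := by
  refine Dcoh.LocalD.isPseudoCoherentD_of_strPC ⟨_, 0, Dcoh.StrPerf.isStrictlyPerfect_zero,
    fun i hi => ?_, ?_⟩
  · have h0 : IsZero ((DerivedCategory.homologyFunctor X.Modules i).obj
        (DerivedCategory.Q.obj (0 : CochainComplex X.Modules ℤ))) :=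
      Functor.map_isZero _ (Functor.map_isZero _ (isZero_zero _))
    exact ⟨0, h0.eq_of_src _ _, (h i hi.le).eq_of_src _ _⟩
  · exact ⟨fun _ _ _ => (h n le_rfl).eq_of_src _ _⟩

theorem isPseudoCoherentD_Rpush (f : X ⟶ Y) [QuasiCompact f]
    [QuasiSeparated f] [CompactSpace Y] [DCoh.HasRpush f] (k : ℤ)
    (hK : ∀ (F : DCoh.D X) (n a b : ℤ), F.IsGE a → F.IsLE b → DCoh.IsPseudoCoherentD n F →
      DCoh.IsPseudoCoherentD (n + k) ((DCoh.Rpush f).obj F))
    (F : DCoh.D X) (hF : ∀ m : ℤ, DCoh.IsPseudoCoherentD m F) (m : ℤ) :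
    DCoh.IsPseudoCoherentD m ((DCoh.Rpush f).obj F) := by
  have : CompactSpace X := QuasiCompact.compactSpace_of_compactSpace f
  obtain ⟨b, hb⟩ := PerfA.ExtPC.exists_isLE_of_isPseudoCoherentD (hF 0)
  have hFq := PerfA.PCohQCoh.isQCohD_of_isPseudoCoherentD hF
  obtain ⟨N, hN⟩ := PerfA.HypPush2.exists_bound_Rpush f
  obtain ⟨a, ha1, ha2⟩ : ∃ a : ℤ, a ≤ m + 1 - N ∧ a ≤ m - k :=
    ⟨min (m + 1 - N) (m - k), min_le_left _ _, min_le_right _ _⟩
  let T := (DerivedCategory.TStructure.t.triangleLTGE a).obj F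
  have hT : T ∈ distTriang (DCoh.D X) := DerivedCategory.TStructure.t.triangleLTGE_distinguished a F
  have h1 : T.obj₁.IsLE (a - 1) :=
    inferInstanceAs (DerivedCategory.TStructure.t.IsLE ((DerivedCategory.TStructure.t.truncLT a).obj F) (a - 1))
  have h3 : T.obj₃.IsGE a :=
    inferInstanceAs (DerivedCategory.TStructure.t.IsGE ((DerivedCategory.TStructure.t.truncGE a).obj F) a)
  have h3' : T.obj₃.IsLE b := by
    have : DerivedCategory.TStructure.t.IsLE F b := hb
    exact inferInstanceAs (DerivedCategory.TStructure.t.IsLE ((DerivedCategory.TStructure.t.truncGE a).obj F) b)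
  have h1q : DCoh.IsQCohD T.obj₁ := PerfA.QCohD.isQCohD_truncLT hFq a
  have h3pc : DCoh.IsPseudoCoherentD a T.obj₃ :=
    Cohder.PCTri2.isPseudoCoherentD_obj₃ a T hT
      (isPseudoCoherentD_of_isZero _ _ fun i hi => DerivedCategory.isZero_of_isLE _ (a - 1) i (by lia)) (hF a)
  have h3R := hK T.obj₃ a a b h3 h3' h3pc
  obtain ⟨w', hT'⟩ := PerfC.RpushTrunc.exists_triangle f T.mor₁ T.mor₂ T.mor₃ hT
  refine Cohder.PCTri2.isPseudoCoherentD_obj₂ m _ hT'
    (isPseudoCoherentD_of_isZero _ _ fun i hi => hN T.obj₁ h1q (a - 1) h1 i (by lia))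
    (Dcoh.LocalD.isPseudoCoherentD_mono (by lia) h3R)

end K370.PcPush
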