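import Groth.Agent.Canon.K769.EvalBase
import Groth.Agent.KumFam.K753.PointRes
import Groth.Agent.AlgSp.K639.Dim2
import Groth.Agent.S5630
import Groth.Agent.S7411
import Groth.Agent.S0912
import Groth.Agent.Pic13.H941.PerfAmp
import Groth.Agent.PerfC.RelFlat
import Groth.Agent.PerfC.RpushSingle
import Groth.Agent.PerfA.PcFlatPush

/-!
# Tor amplitude of `Rf_* E` for `f` proper and flat with fibres of dimension at most `n`
-/

set_option autoImplicit false
universe u
open CategoryTheory CategoryTheory.Limits AlgebraicGeometry TopologicalSpace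
attribute [local instance] HasDerivedCategory.standard

namespace K370.ProjAmp

open Groth.Agent Groth.Agent.PerfA.Restrict Groth.Agent.Dcoh

variable {X Y : Scheme.{u}}

theorem krullDim_fiber_le (f : X ⟶ Y) [LocallyOfFiniteType f] (n : ℕ) (hdim : ∀ x : ↥X, FlatMor.fibreDimAt f x = n) (y : Y) :
    topologicalKrullDim (f.fiber y) ≤ n := by
  by_contra h
  rw [not_le] at h
  obtain ⟨u, -, hu⟩ := (K639.Dim.lt_dim_fiber_iff f y n).1 h
  rw [hdim] at hu
  exact lt_irrefl _ hu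

theorem isZero_HD_Rpush (f : X ⟶ Y) [IsProper f] (n : ℕ) (hn : ∀ y : Y, topologicalKrullDim (f.fiber y) ≤ n)
    [DCoh.HasRpush f] (M : X.Modules) (hM : Coh.IsQCoh M) (i : ℤ) (hi : (n : ℤ) < i) :
    IsZero (DCoh.HD ((DCoh.Rpush f).obj (DCoh.inD X M)) i) := by
  obtain ⟨p, rfl⟩ := Int.eq_ofNat_of_zero_le (by omega : 0 ≤ i)
  have : Coh.IsQCoh M := hM
  have h : IsZero ((Coh.Rpush f p).obj M) := StalkMod.isZero_of_subsingleton _ fun y =>
    K753.PointRes.subsingleton_stalk f M p y (S7411.result f y n (hn y) M p (by omega))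
  exact h.of_iso (PerfC.RpushSingle.iso f p M)

theorem tor_of_compact (f : X ⟶ Y) [IsProper f] [Flat f] [CompactSpace Y] (n : ℕ)
    (hn : ∀ y : Y, topologicalKrullDim (f.fiber y) ≤ n) [DCoh.HasRpush f] (E : DCoh.D X)
    (hE : DCoh.IsPerfect E) (a b : ℤ) (hab : DCoh.HasFlatAmplitudeIn a b E) :
    DCoh.HasTorAmplitudeIn a (b + n) ((DCoh.Rpush f).obj E) := by
  have hqc := PerfA.PCohQCoh.isQCohD_of_isPerfect hE
  have hz : ∀ i : ℤ, (i < a ∨ b < i) → IsZero (DCoh.HD E i) :=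
    TorAmp.isZero_HD_of_torAmplitude (LTMod.torAmplitude_of_flatAmplitude hab)
  have hge : E.IsGE a := (DerivedCategory.isGE_iff _ _).2 fun i hi => hz i (Or.inl hi)
  have hle : E.IsLE b := (DerivedCategory.isLE_iff _ _).2 fun i hi => hz i (Or.inr hi)
  refine S5630.result f n (fun F hF i hi => isZero_HD_Rpush f n hn F hF i hi) E hqc a b a b ?_
  obtain ⟨K, h1, h2, e⟩ := hab
  exact ⟨K, h1, fun i => PerfC.RelFlat.isFlatOver_of_isFlat f (h2 i), e⟩

theorem hasFlatAmplitudeIn_of_isZero {K : DCoh.D X} (hK : IsZero K) (a b : ℤ) :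
    DCoh.HasFlatAmplitudeIn a b K := by
  have h0 : IsZero (HomologicalComplex.zero : CochainComplex X.Modules ℤ) := HomologicalComplex.isZero_zero
  have h1 : ∀ i : ℤ, IsZero ((HomologicalComplex.zero : CochainComplex X.Modules ℤ).X i) := fun i =>
    (HomologicalComplex.eval X.Modules (ComplexShape.up ℤ) i).map_isZero h0
  exact ⟨HomologicalComplex.zero, fun i _ => h1 i, fun i => FlatRes.isFlat_of_isZero (h1 i),
    ⟨(DerivedCategory.Q.map_isZero h0).iso hK⟩⟩

theorem main (f : X ⟶ Y) [IsProper f] [Flat f] (n : ℕ) (hdim : ∀ x : ↥X, FlatMor.fibreDimAt f x = n)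
    [DCoh.HasRpush f] (E : DCoh.D X)
    (hE : DCoh.IsPerfect E) (a b : ℤ) (hab : DCoh.HasFlatAmplitudeIn a b E) :
    DCoh.HasTorAmplitudeIn a (b + n) ((DCoh.Rpush f).obj E) := by
  rcases le_or_gt a (b + n) with h | h
  · rw [S0912.result _ a (b + n) h (fun G => LTMod.hasLTensorMod G)]
    refine Pic13.H941.PerfAmp.hasFlatAmplitudeIn_of_locally h fun y => ?_
    obtain ⟨V, hV, hsV⟩ : ∃ V : Y.Opens, IsAffineOpen V ∧ y ∈ V := by
      obtain ⟨V, hV, hsV, -⟩ := Y.isBasis_affineOpens.exists_subset_of_mem_open (Set.mem_univ y) isOpen_univ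
      obtain ⟨V, hV, rfl⟩ := hV
      exact ⟨V, hV, hsV⟩
    refine ⟨V, hsV, ?_⟩
    have : IsAffine (V : Scheme.{u}) := hV
    have : DCoh.HasRpush (f ∣_ V) := DerSch.hasRpush _
    obtain ⟨e⟩ := PerfA.PcFlatPush.nonempty_restrictD_Rpush f V E
    refine PerfFlat.hasFlatAmplitudeIn_of_iso e.symm ?_
    refine (S0912.result _ a (b + n) h (fun G => LTMod.hasLTensorMod G)).1 ?_
    refine tor_of_compact (f ∣_ V) n (krullDim_fiber_le (f ∣_ V) n fun x => ?_) _
      (PerfA.PerfLocal.isPerfect_restrictD (f ⁻¹ᵁ V).ι hE) a b (PerfFlat.hasFlatAmplitudeIn_restrict _ hab)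
    rw [← K639.Dim2.fibreDimAt_comp_open f (f ⁻¹ᵁ V).ι V.ι (f ∣_ V) (isPullback_morphismRestrict f V).w.symm x]
    exact hdim _
  · obtain ⟨K, h1, h2, ⟨e⟩⟩ := hab
    have hK : ∀ i, IsZero (K.X i) := fun i => h1 i (by lia)
    have hK0 : IsZero K := by
      rw [IsZero.iff_id_eq_zero]
      exact HomologicalComplex.hom_ext _ _ fun i => (hK i).eq_of_src _ _
    have hE0 : IsZero E := (DerivedCategory.Q.map_isZero hK0).of_iso e.symm
    have h0 : IsZero ((DCoh.Rpush f).obj E) := PerfC.ProjAbs291.isZero_Rpush f hE0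
    exact LTMod.torAmplitude_of_flatAmplitude (hasFlatAmplitudeIn_of_isZero h0 _ _)

end K370.ProjAmp
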