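import Groth.Agent.Perf.K370.DiagInj
import Groth.Agent.Ega4B.RpushCompare
import Groth.Agent.S0800
import Groth.Agent.PerfA.StalkExact
import Groth.Agent.Cohder.RDPlusAcyc
import Groth.Agent.Dcoh.DerSch
import Groth.Agent.PerfA.HomologyCoprod
import Groth.Agent.PerfB.ColimHomology

/-!
# `Rf_*` and filtered colimits of uniformly bounded below complexes

Let `f : X ⟶ Y` be quasi-compact and quasi-separated.

* `preservesColimitsOfShape_push`: `f_*` commutes with filtered colimits of `O_X`-modules;
* `isAcyc_colimit`: filtered colimits of injective `O_X`-modules are `f_*`-acyclic;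
* `isIso_unit_of_acyc`: `f_* K ⟶ Rf_* K` is an isomorphism for bounded below complexes of `f_*`-acyclic modules.
-/

set_option autoImplicit false

universe u

open CategoryTheory CategoryTheory.Limits AlgebraicGeometry

attribute [local instance] HasDerivedCategory.standard

namespace K370.PushColim

open Groth.Agent

variable {X Y : Scheme.{u}} (f : X ⟶ Y)

section Abstract

variable {J : Type*} [Category* J] {C D E : Type*} [Category* C] [Category* D] [Category* E]

/-- A functor preserves colimits if it does so after a conservative functor preserving colimits. -/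
lemma preservesColimitsOfShape_of_comp (F : C ⥤ D) (G : D ⥤ E) [HasColimitsOfShape J D]
    [G.ReflectsIsomorphisms] [PreservesColimitsOfShape J G] [PreservesColimitsOfShape J (F ⋙ G)] :
    PreservesColimitsOfShape J F :=
  have : ReflectsColimitsOfShape J G := reflectsColimitsOfShape_of_reflectsIsomorphisms
  preservesColimitsOfShape_of_reflects_of_preserves F G

end Abstract

instance reflectsIsomorphisms_toAbF (X : Scheme.{u}) : (PerfA.StalkExact.toSheafAb X).ReflectsIsomorphisms := by
  have : (Ega4B.RpushCompare.toAbF X).Faithful := inferInstance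
  have : (PerfA.StalkExact.toSheafAb X).Faithful := this
  have : Balanced X.Modules := inferInstance
  exact reflectsIsomorphisms_of_reflectsMonomorphisms_of_reflectsEpimorphisms _

variable [QuasiCompact f] [QuasiSeparated f] (J : Type u) [SmallCategory J] [IsFiltered J]

/-- `f_*` commutes with filtered colimits of abelian sheaves. -/
theorem preservesColimitsOfShape_pushAb : PreservesColimitsOfShape J (Coh.pushAb f) := by
  have := Groth.Agent.S0800.result f 0 J
  exact preservesColimitsOfShape_of_natIso (Coh.pushAb f).rightDerivedZeroIsoSelf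

/-- `f_*` commutes with filtered colimits. -/
theorem preservesColimitsOfShape_push : PreservesColimitsOfShape J (Scheme.Modules.pushforward f) := by
  have h0 := preservesColimitsOfShape_pushAb f J
  have := Dcoh.DerSch.isGrothendieckAbelian Y
  have h1 : PreservesColimitsOfShape J (Scheme.Modules.pushforward f ⋙ PerfA.StalkExact.toSheafAb Y) :=
    inferInstanceAs (PreservesColimitsOfShape J (PerfA.StalkExact.toSheafAb X ⋙ Coh.pushAb f))
  exact preservesColimitsOfShape_of_comp _ (PerfA.StalkExact.toSheafAb Y)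

/-- Filtered colimits of `f_*`-acyclic modules are `f_*`-acyclic. -/
theorem isAcyc_colimit [HasInjectiveResolutions X.Modules] {J : Type u} [SmallCategory J] [IsFiltered J]
    {D : J ⥤ X.Modules} (c : Cocone D) (hc : IsColimit c)
    (hD : ∀ j, Cohder.RDAcyc.IsAcyc (Scheme.Modules.pushforward f) (D.obj j)) :
    Cohder.RDAcyc.IsAcyc (Scheme.Modules.pushforward f) c.pt := by
  intro i hi
  refine (Ega4B.RpushCompare.isZero_rpush_iff f c.pt i).2 ?_
  have h1 := Groth.Agent.S0800.result f i J
  have h2 : IsColimit ((PerfA.StalkExact.toSheafAb X ⋙ Coh.RpushAb f i).mapCocone c) :=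
    isColimitOfPreserves _ hc
  rw [IsZero.iff_id_eq_zero]
  refine h2.hom_ext fun j => ?_
  exact ((Ega4B.RpushCompare.isZero_rpush_iff f (D.obj j) i).1 (hD j i hi)).eq_of_src _ _

section Formal

variable {K E J : Type*} [Category* K] [Category* E] [Category* J]

/-- Transport of colimit cocones along a natural transformation which is an isomorphism on the diagram and the
point. -/
lemma nonempty_isColimit_of_natTrans {F G : K ⥤ E} (α : F ⟶ G) {D : J ⥤ K} (d : Cocone D)
    (h : ∀ j, IsIso (α.app (D.obj j))) (h' : IsIso (α.app d.pt)) (hF : IsColimit (F.mapCocone d)) :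
    Nonempty (IsColimit (G.mapCocone d)) := by
  let e : D ⋙ F ≅ D ⋙ G := NatIso.ofComponents (fun j => @asIso _ _ _ _ (α.app (D.obj j)) (h j))
    (fun g => α.naturality (D.map g))
  let a : F.obj d.pt ≅ G.obj d.pt := @asIso _ _ _ _ (α.app d.pt) h'
  refine ⟨(IsColimit.equivOfNatIsoOfIso e (F.mapCocone d) (G.mapCocone d)
    (Cocone.ext (c := (Cocone.precompose e.inv).obj (F.mapCocone d)) (c' := G.mapCocone d) a ?_)) hF⟩
  intro j
  change ((inv (α.app (D.obj j))) ≫ F.map (d.ι.app j)) ≫ α.app d.pt = G.map (d.ι.app j)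
  rw [Category.assoc]
  exact (IsIso.inv_comp_eq _).2 (α.naturality (d.ι.app j))

/-- Transport of colimit cocones along a morphism of diagrams inverted by the functor. -/
lemma nonempty_isColimit_of_map {G : K ⥤ E} {C D : J ⥤ K} (φ : C ⟶ D) (c : Cocone C) (d : Cocone D)
    (ψ : c.pt ⟶ d.pt) (hψ : ∀ j, c.ι.app j ≫ ψ = φ.app j ≫ d.ι.app j)
    (h : ∀ j, IsIso (G.map (φ.app j))) (h' : IsIso (G.map ψ)) (hd : IsColimit (G.mapCocone d)) :
    Nonempty (IsColimit (G.mapCocone c)) := by
  let e : C ⋙ G ≅ D ⋙ G := NatIso.ofComponents (fun j => @asIso _ _ _ _ (G.map (φ.app j)) (h j))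
    (fun g => by
      change G.map (C.map g) ≫ G.map (φ.app _) = G.map (φ.app _) ≫ G.map (D.map g)
      rw [← G.map_comp, ← G.map_comp, φ.naturality])
  let a : G.obj c.pt ≅ G.obj d.pt := @asIso _ _ _ _ (G.map ψ) h'
  refine ⟨(IsColimit.equivOfNatIsoOfIso e (G.mapCocone c) (G.mapCocone d)
    (Cocone.ext (c := (Cocone.precompose e.inv).obj (G.mapCocone c)) (c' := G.mapCocone d) a ?_)).symm hd⟩
  intro j
  change ((inv (G.map (φ.app j))) ≫ G.map (c.ι.app j)) ≫ G.map ψ = G.map (d.ι.app j)
  rw [Category.assoc, ← G.map_comp, hψ, G.map_comp, IsIso.inv_hom_id_assoc]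

end Formal

section Unit

omit [QuasiCompact f] [QuasiSeparated f]

/-- `f_* K ⟶ Rf_* K` is an isomorphism for bounded below complexes of `f_*`-acyclic modules. -/
theorem isIso_unit_of_acyc [DCoh.HasRpush f] [HasInjectiveResolutions X.Modules]
    (K : CochainComplex X.Modules ℤ) (n : ℤ) [K.IsStrictlyGE n]
    (hK : ∀ p, Cohder.RDAcyc.IsAcyc (Scheme.Modules.pushforward f) (K.X p)) :
    IsIso ((Dcoh.DerSch.rpushUnitQ f).app K) := by
  have := Dcoh.DerSch.enoughInjectives X
  obtain ⟨L, s, hs, hL, hLn⟩ := CochainComplex.Plus.modelCategoryQuillen.exists_quasiIso_injective K n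
  have hLK : L.IsKInjective := CochainComplex.isKInjective_of_injective L n
  have h1 : QuasiIso (((Scheme.Modules.pushforward f).mapHomologicalComplex (ComplexShape.up ℤ)).map s) :=
    Cohder.RDPlusAcyc.quasiIso_map _ s n n hK (fun p => Cohder.RDAcyc.isAcyc_injective _ _)
  have h2 := (Dcoh.DerSch.rpushUnitQ f).naturality s
  have h3 := Dcoh.DerSch.isIso_rpushUnitQ_app f L hLK
  have h4 : IsIso (DerivedCategory.Q.map s) := (DerivedCategory.isIso_Q_map_iff_quasiIso _ s).2 hs
  have h5 : IsIso (DerivedCategory.Q.map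
      (((Scheme.Modules.pushforward f).mapHomologicalComplex (ComplexShape.up ℤ)).map s)) :=
    (DerivedCategory.isIso_Q_map_iff_quasiIso _ _).2 h1
  have h6 : IsIso ((Dcoh.DerSch.rpushUnitQ f).app K ≫ (DCoh.Rpush f).map (DerivedCategory.Q.map s)) := by
    change IsIso ((Dcoh.DerSch.rpushUnitQ f).app K ≫ (DerivedCategory.Q ⋙ DCoh.Rpush f).map s)
    rw [← h2]
    change IsIso (DerivedCategory.Q.map
      (((Scheme.Modules.pushforward f).mapHomologicalComplex (ComplexShape.up ℤ)).map s) ≫
        (Dcoh.DerSch.rpushUnitQ f).app L)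
    infer_instance
  exact IsIso.of_isIso_comp_right _ ((DCoh.Rpush f).map (DerivedCategory.Q.map s))

end Unit

section Main

variable {J : Type u} [SmallCategory J] [IsFiltered J] [DCoh.HasRpush f]

/-- `H^i ∘ f_* ⟶ H^i ∘ Rf_*` on complexes. -/
noncomputable def unitH (i : ℤ) :
    (Scheme.Modules.pushforward f).mapHomologicalComplex (ComplexShape.up ℤ) ⋙
      HomologicalComplex.homologyFunctor Y.Modules (ComplexShape.up ℤ) i ⟶
    DerivedCategory.Q ⋙ DCoh.Rpush f ⋙ DerivedCategory.homologyFunctor Y.Modules i :=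
  Functor.whiskerLeft ((Scheme.Modules.pushforward f).mapHomologicalComplex (ComplexShape.up ℤ))
    (DerivedCategory.homologyFunctorFactors Y.Modules i).inv ≫
  Functor.whiskerRight (Dcoh.DerSch.rpushUnitQ f) (DerivedCategory.homologyFunctor Y.Modules i)

omit [QuasiCompact f] [QuasiSeparated f] in
lemma isIso_unitH_app (i : ℤ) (K : CochainComplex X.Modules ℤ) (h : IsIso ((Dcoh.DerSch.rpushUnitQ f).app K)) :
    IsIso ((unitH f i).app K) := by
  dsimp only [unitH, NatTrans.comp_app, Functor.whiskerLeft_app, Functor.whiskerRight_app]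
  infer_instance

omit [DCoh.HasRpush f] in
/-- Homology of `f_*` commutes with filtered colimits of complexes. -/
lemma preservesColimitsOfShape_homology_push (J : Type u) [SmallCategory J] [IsFiltered J] (i : ℤ) :
    PreservesColimitsOfShape J
      ((Scheme.Modules.pushforward f).mapHomologicalComplex (ComplexShape.up ℤ) ⋙
        HomologicalComplex.homologyFunctor Y.Modules (ComplexShape.up ℤ) i) := by
  have := preservesColimitsOfShape_push f J
  have := Dcoh.DerSch.isGrothendieckAbelian X
  have := Dcoh.DerSch.isGrothendieckAbelian Y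
  have h1 : PreservesColimitsOfShape J
      ((Scheme.Modules.pushforward f).mapHomologicalComplex (ComplexShape.up ℤ)) := by
    refine ⟨fun {K} => ⟨fun {c} hc => ⟨?_⟩⟩⟩
    exact HomologicalComplex.isColimitOfEval _ _ (fun n =>
      isColimitOfPreserves (HomologicalComplex.eval X.Modules (ComplexShape.up ℤ) n ⋙
        Scheme.Modules.pushforward f) hc)
  infer_instance

theorem nonempty_isColimit (C : J ⥤ CochainComplex X.Modules ℤ) (c : Cocone C) (hc : IsColimit c) (n : ℤ)
    (hC : ∀ j, (C.obj j).IsGE n) (i : ℤ) :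
    Nonempty (IsColimit ((DerivedCategory.Q ⋙ DCoh.Rpush f ⋙
      DerivedCategory.homologyFunctor Y.Modules i).mapCocone c)) := by
  have := Dcoh.DerSch.isGrothendieckAbelian X
  have := Dcoh.DerSch.isGrothendieckAbelian Y
  have := Dcoh.DerSch.hasInjectiveResolutions X
  obtain ⟨D, φ, h1, h2, h3⟩ := DiagInj.exists_resolution C n hC
  let d := colimit.cocone D
  let hd : IsColimit d := colimit.isColimit D
  let ψ : c.pt ⟶ d.pt := hc.desc ((Cocone.precompose φ).obj d)
  have hψ : ∀ j, c.ι.app j ≫ ψ = φ.app j ≫ d.ι.app j := fun j => hc.fac ((Cocone.precompose φ).obj d) j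
  have hψq : QuasiIso ψ :=
    MorphismProperty.IsStableUnderColimitsOfShape.condition
      (W := HomologicalComplex.quasiIso X.Modules (ComplexShape.up ℤ)) (J := J) C D c d hc hd φ h1 ψ hψ
  -- acyclicity of the colimit
  have hX : ∀ p : ℤ, IsColimit ((HomologicalComplex.eval X.Modules (ComplexShape.up ℤ) p).mapCocone d) :=
    fun p => isColimitOfPreserves _ hd
  have hac : ∀ p : ℤ, Cohder.RDAcyc.IsAcyc (Scheme.Modules.pushforward f) (d.pt.X p) := fun p =>
    isAcyc_colimit f _ (hX p) (fun j => by
      have : Injective ((D ⋙ HomologicalComplex.eval X.Modules (ComplexShape.up ℤ) p).obj j) := h3 j p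
      exact Cohder.RDAcyc.isAcyc_injective _ _)
  have hdn : d.pt.IsStrictlyGE n := by
    rw [CochainComplex.isStrictlyGE_iff]
    intro p hp
    rw [IsZero.iff_id_eq_zero]
    refine (hX p).hom_ext fun j => ?_
    have := h2 j
    exact ((D.obj j).isZero_of_isStrictlyGE n p hp).eq_of_src _ _
  have e1 : ∀ j, IsIso ((unitH f i).app (D.obj j)) := fun j => by
    have := h2 j
    have := h3 j
    exact isIso_unitH_app f i _ (Dcoh.DerSch.isIso_rpushUnitQ_app f _
      (CochainComplex.isKInjective_of_injective _ n))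
  have e2 : IsIso ((unitH f i).app d.pt) := isIso_unitH_app f i _ (isIso_unit_of_acyc f d.pt n hac)
  have := preservesColimitsOfShape_homology_push f J i
  obtain ⟨hd'⟩ := nonempty_isColimit_of_natTrans (unitH f i) d e1 e2 (isColimitOfPreserves _ hd)
  refine nonempty_isColimit_of_map φ c d ψ hψ (fun j => ?_) ?_ hd'
  · have : IsIso (DerivedCategory.Q.map (φ.app j)) := (DerivedCategory.isIso_Q_map_iff_quasiIso _ _).2 (h1 j)
    dsimp only [Functor.comp_map]
    infer_instance
  · have : IsIso (DerivedCategory.Q.map ψ) := (DerivedCategory.isIso_Q_map_iff_quasiIso _ _).2 hψq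
    dsimp only [Functor.comp_map]
    infer_instance

end Main

end K370.PushColim
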