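import Groth.Agent.Perf.K370.PushColim
import Groth.Agent.Proet.PresCoprod

/-!
# `Rf_*` and direct sums of uniformly bounded below complexes

`f : X ⟶ Y` quasi-compact and quasi-separated: `preservesColimit_Rpush`: `Rf_*` preserves direct sums of
uniformly bounded below objects of `D(O_X)`.
-/

set_option autoImplicit false

universe u

open CategoryTheory CategoryTheory.Limits AlgebraicGeometry

attribute [local instance] HasDerivedCategory.standard

namespace K370.PushCoprod

open Groth.Agent K370.PushColim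

variable {X Y : Scheme.{u}} (f : X ⟶ Y) [QuasiCompact f] [QuasiSeparated f]

/-- `f_*` preserves direct sums. -/
theorem preservesCoproducts_push (ι : Type u) :
    PreservesColimitsOfShape (Discrete ι) (Scheme.Modules.pushforward f) := by
  have := Dcoh.DerSch.isGrothendieckAbelian X
  have := preservesColimitsOfShape_push f (Finset (Discrete ι))
  exact Proet.PresCoprod.preservesColimitsOfShape_discrete _

/-- Direct sums of `f_*`-acyclic modules are `f_*`-acyclic. -/
theorem isAcyc_coproduct [HasInjectiveResolutions X.Modules] {ι : Type u}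
    {D : Discrete ι ⥤ X.Modules} (c : Cocone D) (hc : IsColimit c)
    (hD : ∀ j, Cohder.RDAcyc.IsAcyc (Scheme.Modules.pushforward f) (D.obj j)) :
    Cohder.RDAcyc.IsAcyc (Scheme.Modules.pushforward f) c.pt := by
  have := Dcoh.DerSch.isGrothendieckAbelian X
  have := Dcoh.DerSch.enoughInjectives X
  intro i hi
  refine (Ega4B.RpushCompare.isZero_rpush_iff f c.pt i).2 ?_
  have h0 : ∀ (J : Type u) [SmallCategory J] [IsFiltered J],
      PreservesColimitsOfShape J (PerfA.StalkExact.toSheafAb X ⋙ Coh.RpushAb f i) := fun J _ _ => by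
    have := Groth.Agent.S0800.result f i J
    infer_instance
  have h1 : PreservesColimitsOfShape (Discrete ι) (PerfA.StalkExact.toSheafAb X ⋙ Coh.RpushAb f i) := by
    have := h0 (Finset (Discrete ι))
    exact Proet.PresCoprod.preservesColimitsOfShape_discrete _
  have h2 : IsColimit ((PerfA.StalkExact.toSheafAb X ⋙ Coh.RpushAb f i).mapCocone c) :=
    isColimitOfPreserves _ hc
  rw [IsZero.iff_id_eq_zero]
  refine h2.hom_ext fun j => ?_
  exact ((Ega4B.RpushCompare.isZero_rpush_iff f (D.obj j) i).1 (hD j i hi)).eq_of_src _ _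

lemma preservesCoproducts_mapQ (ι : Type u) :
    PreservesColimitsOfShape (Discrete ι)
      ((Scheme.Modules.pushforward f).mapHomologicalComplex (ComplexShape.up ℤ)) := by
  have := Dcoh.DerSch.isGrothendieckAbelian X
  have := preservesCoproducts_push f ι
  refine ⟨fun {K} => ⟨fun {c} hc => ⟨?_⟩⟩⟩
  exact HomologicalComplex.isColimitOfEval _ _ (fun n =>
      isColimitOfPreserves (HomologicalComplex.eval X.Modules (ComplexShape.up ℤ) n ⋙
        Scheme.Modules.pushforward f) hc)

omit [QuasiCompact f] [QuasiSeparated f] in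
lemma preservesCoproducts_Q (Y : Scheme.{u}) (ι : Type u) :
    PreservesColimitsOfShape (Discrete ι)
      (DerivedCategory.Q : CochainComplex Y.Modules ℤ ⥤ DerivedCategory Y.Modules) := by
  have := Dcoh.DerSch.isGrothendieckAbelian Y
  suffices ∀ K : ι → CochainComplex Y.Modules ℤ, PreservesColimit (Discrete.functor K)
      (DerivedCategory.Q : CochainComplex Y.Modules ℤ ⥤ DerivedCategory Y.Modules) from
    preservesColimitsOfShape_of_discrete _
  intro K
  refine preservesColimit_of_preserves_colimit_cocone (coproductIsCoproduct K) ?_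
  exact (isColimitMapCoconeCofanMkEquiv DerivedCategory.Q K (Sigma.ι K)).symm
    (PerfB.CoprodDerived.isColimitQCofan K)

theorem preservesColimit_Rpush [DCoh.HasRpush f] {ι : Type u} (K : ι → DCoh.D X) (n : ℤ)
    (hK : ∀ i, (K i).IsGE n) : PreservesColimit (Discrete.functor K) (DCoh.Rpush f) := by
  have := Dcoh.DerSch.isGrothendieckAbelian X
  have := Dcoh.DerSch.isGrothendieckAbelian Y
  have := Dcoh.DerSch.hasInjectiveResolutions X
  have := Dcoh.DerSch.enoughInjectives X
  have h0 : ∀ i, ∃ (I : CochainComplex X.Modules ℤ), I.IsStrictlyGE n ∧ (∀ p, Injective (I.X p)) ∧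
      Nonempty (DerivedCategory.Q.obj I ≅ K i) := fun i => by
    have := hK i
    obtain ⟨C, hC, ⟨e⟩⟩ := DerivedCategory.exists_iso_Q_obj_of_isGE (K i) n
    obtain ⟨L, s, hs, hL, hLn⟩ := CochainComplex.Plus.modelCategoryQuillen.exists_quasiIso_injective C n
    have : IsIso (DerivedCategory.Q.map s) := (DerivedCategory.isIso_Q_map_iff_quasiIso _ s).2 hs
    exact ⟨L, hLn, hL, ⟨(asIso (DerivedCategory.Q.map s)).symm ≪≫ e.symm⟩⟩
  choose I hI1 hI2 hI3 using h0
  let e : Discrete.functor (fun i => DerivedCategory.Q.obj (I i)) ≅ Discrete.functor K :=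
    Discrete.natIso fun i => (hI3 i.as).some
  refine @preservesColimit_of_iso_diagram _ _ _ _ _ _ _ _ _ e ?_
  let d : Cofan I := Cofan.mk (∐ I) (Sigma.ι I)
  have hd : IsColimit d := coproductIsCoproduct I
  have hX : ∀ p : ℤ, IsColimit ((HomologicalComplex.eval X.Modules (ComplexShape.up ℤ) p).mapCocone d) :=
    fun p => isColimitOfPreserves _ hd
  have hac : ∀ p : ℤ, Cohder.RDAcyc.IsAcyc (Scheme.Modules.pushforward f) (d.pt.X p) := fun p =>
    isAcyc_coproduct f _ (hX p) (fun j => by
      have : Injective ((Discrete.functor I ⋙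
        HomologicalComplex.eval X.Modules (ComplexShape.up ℤ) p).obj j) := hI2 j.as p
      exact Cohder.RDAcyc.isAcyc_injective _ _)
  have hdn : d.pt.IsStrictlyGE n := by
    rw [CochainComplex.isStrictlyGE_iff]
    intro p hp
    rw [IsZero.iff_id_eq_zero]
    refine (hX p).hom_ext fun j => ?_
    have := hI1 j.as
    exact ((I j.as).isZero_of_isStrictlyGE n p hp).eq_of_src _ _
  have e1 : ∀ j, IsIso ((Dcoh.DerSch.rpushUnitQ f).app (I j)) := fun j => by
    have := hI1 j
    have := hI2 j
    exact Dcoh.DerSch.isIso_rpushUnitQ_app f _ (CochainComplex.isKInjective_of_injective _ n)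
  have e2 : IsIso ((Dcoh.DerSch.rpushUnitQ f).app d.pt) := isIso_unit_of_acyc f d.pt n hac
  have := preservesCoproducts_mapQ f ι
  have := preservesCoproducts_Q Y ι
  have h6 : IsColimit (((Scheme.Modules.pushforward f).mapHomologicalComplex (ComplexShape.up ℤ) ⋙
      DerivedCategory.Q).mapCocone d) := isColimitOfPreserves _ hd
  have h7 := (nonempty_isColimit_of_natTrans (Dcoh.DerSch.rpushUnitQ f) d (fun j => e1 j.as) e2 h6).some
  have hc := PerfB.CoprodDerived.isColimitQCofan I
  refine preservesColimit_of_preserves_colimit_cocone (F := DCoh.Rpush f) hc ?_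
  let α : Discrete.functor I ⋙ DerivedCategory.Q ⋙ DCoh.Rpush f ≅
      Discrete.functor (fun i => DerivedCategory.Q.obj (I i)) ⋙ DCoh.Rpush f :=
    Discrete.natIso fun j => Iso.refl _
  refine (IsColimit.equivOfNatIsoOfIso α
    ((DerivedCategory.Q ⋙ DCoh.Rpush f).mapCocone d)
    ((DCoh.Rpush f).mapCocone (Cofan.mk (DerivedCategory.Q.obj (∐ I)) fun j => DerivedCategory.Q.map (Sigma.ι I j)))
    (Cocone.ext (Iso.refl _) fun j => ?_)) h7
  change (𝟙 _ ≫ (DCoh.Rpush f).map (DerivedCategory.Q.map (Sigma.ι I j.as))) ≫ 𝟙 _ = _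
  rw [Category.id_comp, Category.comp_id]
  rfl

end K370.PushCoprod
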