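import Groth.Agent.Flat2H.TorDimHom
import Groth.Agent.Flat2H.PCBridge
import Groth.Agent.LoccohB.FlatPerf
import Groth.Agent.S1509
import Groth.Agent.S1676
import Groth.Agent.S1004
import Groth.Agent.S2066
import Groth.Agent.PerfC.TildePush
import Groth.Agent.PerfC.TildeProj
import Groth.Agent.Dcoh.PushRestrict
import Groth.Agent.Dcoh.LocalD
import Groth.Agent.PerfA.PerfLocal

/-!
# Pseudo-coherent direct images over smooth schemes

* `hasFiniteTorDim_of_smooth`: for `A → B` smooth and `B → C` with `C` flat over `A`, `C` has finite tor dimension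
  over `B`.
* `isPerfect_push`: `f : X ⟶ Y` affine, `Y` smooth over `S`, `X` flat over `S`, `f_* O_X` pseudo-coherent
  imply `f_* O_X` perfect.
-/

set_option autoImplicit false

universe u

open CategoryTheory CategoryTheory.Limits AlgebraicGeometry TensorProduct

attribute [local instance] HasDerivedCategory.standard

namespace K370.PushSmooth

open Groth.Agent Groth.Agent.Flat2H Groth.Agent.Flat2H.TorDimHom

/-- A section of a smooth algebra has finite tor dimension. -/
theorem ftd_section {C D : Type u} [CommRing C] [CommRing D] [Algebra C D] [Algebra.Smooth C D] (π : D →+* C)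
    (hπ : π.comp (algebraMap C D) = RingHom.id C) : FTD π := by
  let σ : Spec (.of C) ⟶ Spec (.of D) := Spec.map (CommRingCat.ofHom π)
  let f : Spec (.of D) ⟶ Spec (.of C) := Spec.map (CommRingCat.ofHom (algebraMap C D))
  have hf : Smooth f := by
    rw [HasRingHomProperty.Spec_iff (P := @Smooth)]
    exact RingHom.smooth_algebraMap.2 inferInstance
  have hσf : σ ≫ f = 𝟙 _ := by
    rw [← Spec.map_comp, ← CommRingCat.ofHom_comp, hπ]
    exact Spec.map_id _
  have hcl : IsClosedImmersion σ := IsClosedImmersion.spec_of_surjective _ fun c =>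
    ⟨algebraMap C D c, RingHom.congr_fun hπ c⟩
  have hp := Groth.Agent.S1509.result σ (Groth.Agent.S1676.result f σ hσf)
  have hFTD : HasRingHomProperty (affineLocally @FTD) @FTD := ⟨ftd_propertyIsLocal, rfl⟩
  have h2 : affineLocally @FTD σ := by
    rw [affineLocally_iff_forall_isAffineOpen]
    intro V hV U hU e
    exact (hp U V hU hV e).2
  exact (HasRingHomProperty.Spec_iff (P := affineLocally @FTD)).1 h2

theorem hasFiniteTorDim_of_smooth (A B C : Type u) [CommRing A] [CommRing B] [CommRing C] [Algebra A B] [Algebra B C]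
    [Algebra A C] [IsScalarTower A B C] [Algebra.Smooth A B] [Module.Flat A C] : DRing.HasFiniteTorDim B C := by
  let _ : Algebra C (B ⊗[A] C) := Algebra.TensorProduct.rightAlgebra
  have hsm : Algebra.Smooth C (B ⊗[A] C) := by
    let e : C ⊗[A] B ≃ₐ[C] B ⊗[A] C :=
      { Algebra.TensorProduct.comm A C B with
        commutes' := fun c => by
          change Algebra.TensorProduct.comm A C B (c ⊗ₜ 1) = _
          rw [Algebra.TensorProduct.comm_tmul]; rfl }
    exact Algebra.Smooth.of_equiv e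
  let π : B ⊗[A] C →ₐ[B] C := Algebra.TensorProduct.lift (Algebra.ofId B C) (IsScalarTower.toAlgHom A C C)
    (fun _ _ => Commute.all _ _)
  have hπ : π.toRingHom.comp (algebraMap C (B ⊗[A] C)) = RingHom.id C := by
    ext c
    change π ((1 : B) ⊗ₜ[A] c) = c
    rw [Algebra.TensorProduct.lift_tmul, map_one, one_mul]
    rfl
  have h4 := ftd_section π.toRingHom hπ
  have h6 : Module.Flat B (B ⊗[A] C) := inferInstance
  have h7 : algebraMap B C = π.toRingHom.comp (algebraMap B (B ⊗[A] C)) := π.comp_algebraMap.symm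
  have h8 : FTD (algebraMap B C) := by
    rw [h7]
    exact (FTD.of_flat (RingHom.flat_algebraMap_iff.2 h6)).comp h4
  exact ftd_algebraMap_iff.1 h8

section Push

variable {X Y : Scheme.{u}} (f : X ⟶ Y) [IsAffineHom f]

lemma isPullback_fromSpec {V : Y.Opens} (hV : IsAffineOpen V) :
    IsPullback (hV.preimage f).fromSpec (Spec.map (f.app V)) f hV.fromSpec := by
  refine (IsOpenImmersion.isPullback _ _ _ _ ?_ ?_).flip
  · rw [Scheme.Hom.app_eq_appLE]
    exact (hV.SpecMap_appLE_fromSpec f (hV.preimage f) le_rfl).symm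
  · rw [IsAffineOpen.opensRange_fromSpec, IsAffineOpen.opensRange_fromSpec]

/-- `f_* O_X` over an affine open `V` is the sheaf of the `Γ(Y, V)`-module `Γ(X, f⁻¹ V)`. -/
noncomputable def restrictPushIso {V : Y.Opens} (hV : IsAffineOpen V) :
    ((Scheme.Modules.pushforward f).obj (Coh.structureModule X)).restrict hV.fromSpec ≅
      (tilde.functor Γ(Y, V)).obj ((ModuleCat.restrictScalars (f.app V).hom).obj
        (ModuleCat.of Γ(X, f ⁻¹ᵁ V) Γ(X, f ⁻¹ᵁ V))) :=
  (Dcoh.PushRestrict.pushRestrictIsoOfIsPullback f (Spec.map (f.app V)) _ _ (isPullback_fromSpec f hV)).app _ ≪≫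
    (Scheme.Modules.pushforward (Spec.map (f.app V))).mapIso
      (Scheme.Modules.restrictUnitIso _ ≪≫ tildeSelf.symm) ≪≫
    (PerfC.TildePush.tildePushIso (f.app V)).app (ModuleCat.of Γ(X, f ⁻¹ᵁ V) Γ(X, f ⁻¹ᵁ V))

/-- The main theorem. -/
theorem isPerfect_push {S : Scheme.{u}} (g : Y ⟶ S) [Smooth g] [Flat (f ≫ g)]
    (hpc : ∀ m : ℤ, DCoh.IsPseudoCoherentD m
      (DCoh.inD Y ((Scheme.Modules.pushforward f).obj (Coh.structureModule X)))) :
    DCoh.IsPerfect (DCoh.inD Y ((Scheme.Modules.pushforward f).obj (Coh.structureModule X))) := by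
  refine Dcoh.LocalD.isPerfect_of_cover fun y => ?_
  obtain ⟨W, hW, hyW, -⟩ := TopologicalSpace.Opens.isBasis_iff_nbhd.mp S.isBasis_affineOpens
    (TopologicalSpace.Opens.mem_top (g y))
  obtain ⟨V, hV, hyV, hVW⟩ := TopologicalSpace.Opens.isBasis_iff_nbhd.mp Y.isBasis_affineOpens
    (show y ∈ g ⁻¹ᵁ W from hyW)
  refine ⟨_, hV.fromSpec, inferInstance, ?_, ?_⟩
  · rw [hV.range_fromSpec]
    exact hyV
  have hlim : PreservesFiniteLimits (tilde.functor Γ(Y, V)) :=
    PerfB.TildeExact.preservesFiniteLimits_tilde _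
  let N : ModuleCat Γ(Y, V) := (ModuleCat.restrictScalars (f.app V).hom).obj
    (ModuleCat.of Γ(X, f ⁻¹ᵁ V) Γ(X, f ⁻¹ᵁ V))
  let e : (DCoh.restrictD hV.fromSpec).obj
      (DCoh.inD Y ((Scheme.Modules.pushforward f).obj (Coh.structureModule X))) ≅
      (DCoh.tildeD Γ(Y, V)).obj (Dual.inD Γ(Y, V) N) :=
    PerfA.PerfLocal.restrictInD hV.fromSpec _ ≪≫
      (DerivedCategory.singleFunctor _ 0).mapIso (restrictPushIso f hV) ≪≫
        (((tilde.functor Γ(Y, V)).mapDerivedCategorySingleFunctor 0).app N).symm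
  have hU : IsAffineOpen (f ⁻¹ᵁ V) := hV.preimage f
  -- pseudo-coherence
  have h1 : DRing.IsPseudoCoherent' Γ(Y, V) (Dual.inD Γ(Y, V) N) :=
    (Groth.Agent.S2066.result _).1.1 fun m => (Groth.Agent.S1004.result Γ(Y, V) _ m).1
      (Dcoh.LocalD.isPseudoCoherentD_of_iso e (Dcoh.LocalD.isPseudoCoherentD_restrict _ (hpc m)))
  have h2 : Groth.Agent.Flat2H.FPInf Γ(Y, V) N :=
    (Groth.Agent.Flat2H.PCBridge.isPseudoCoherentModule'_iff N).1 h1
  -- finite tor dimension
  have h3 : DRing.HasFiniteTorDim Γ(Y, V) N := by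
    let _ : Algebra Γ(S, W) Γ(Y, V) := (g.appLE W V hVW).hom.toAlgebra
    let _ : Algebra Γ(Y, V) Γ(X, f ⁻¹ᵁ V) := (f.app V).hom.toAlgebra
    have hUW : f ⁻¹ᵁ V ≤ (f ≫ g) ⁻¹ᵁ W := fun y hy => hVW hy
    let _ : Algebra Γ(S, W) Γ(X, f ⁻¹ᵁ V) := ((f ≫ g).appLE W (f ⁻¹ᵁ V) hUW).hom.toAlgebra
    have hsm : Algebra.Smooth Γ(S, W) Γ(Y, V) := g.smooth_appLE hW hV hVW
    have hfl : Module.Flat Γ(S, W) Γ(X, f ⁻¹ᵁ V) := (f ≫ g).flat_appLE hW hU hUW
    have : IsScalarTower Γ(S, W) Γ(Y, V) Γ(X, f ⁻¹ᵁ V) := IsScalarTower.of_algebraMap_eq' (by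
      have h3 := Scheme.Hom.appLE_comp_appLE f g W V (f ⁻¹ᵁ V) hVW le_rfl
      rw [← Scheme.Hom.app_eq_appLE] at h3
      exact congr(($h3).hom).symm)
    exact hasFiniteTorDim_of_smooth Γ(S, W) Γ(Y, V) Γ(X, f ⁻¹ᵁ V)
  obtain ⟨n, hn⟩ := h3
  have h4 : DRing.IsPerfect Γ(Y, V) (Dual.inD Γ(Y, V) N) := LoccohB.FlatPerf.isPerfect_inD_of_fpInf n h2 hn
  exact Dcoh.LocalD.isPerfect_of_iso e.symm (PerfC.TildeProj.isPerfect_tildeD Γ(Y, V) _ h4)

end Push

end K370.PushSmooth
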