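import Groth.Agent.Perf.K370.PushColim

/-!
# The unit `f_* ⟶ Rf_*` and filtered colimits
-/

set_option autoImplicit false

universe u

open CategoryTheory CategoryTheory.Limits AlgebraicGeometry

attribute [local instance] HasDerivedCategory.standard

namespace K370.PushUnit

open Groth.Agent K370.PushColim

section Formal

variable {K E J : Type*} [Category* K] [Category* E] [Category* J]

/-- A natural transformation which is an isomorphism on a diagram is an isomorphism on the colimit, if both functors
preserve it. -/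
lemma isIso_app_of_isColimit {F G : K ⥤ E} (α : F ⟶ G) {D : J ⥤ K} (d : Cocone D)
    (h : ∀ j, IsIso (α.app (D.obj j))) (hF : IsColimit (F.mapCocone d)) (hG : IsColimit (G.mapCocone d)) :
    IsIso (α.app d.pt) := by
  let e : D ⋙ F ≅ D ⋙ G := NatIso.ofComponents (fun j => @asIso _ _ _ _ (α.app (D.obj j)) (h j))
    (fun g => α.naturality (D.map g))
  have : α.app d.pt = (hF.coconePointsIsoOfNatIso hG e).hom := by
    refine hF.hom_ext fun j => ?_
    rw [IsColimit.comp_coconePointsIsoOfNatIso_hom]
    exact α.naturality (d.ι.app j)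
  rw [this]
  infer_instance

end Formal

variable {X Y : Scheme.{u}} (f : X ⟶ Y) [DCoh.HasRpush f]

lemma isIso_unit_iff (K : CochainComplex X.Modules ℤ) :
    IsIso ((Dcoh.DerSch.rpushUnitQ f).app K) ↔
      IsIso ((Dcoh.DerSch.rpushUnit f).app ((HomotopyCategory.quotient _ _).obj K)) := by
  refine ⟨fun h => ?_, fun h => Dcoh.DerComp.isIso_unitQ_app _ _ _ _ h⟩
  have h1 := Dcoh.DerComp.unitQ_app (Scheme.Modules.pushforward f) (DCoh.Rpush f) (Dcoh.DerSch.rpushUnit f) K
  change IsIso ((Dcoh.DerComp.unitQ (Scheme.Modules.pushforward f) (DCoh.Rpush f) (Dcoh.DerSch.rpushUnit f)).app K) at h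
  rw [h1] at h
  have h2 := @IsIso.of_isIso_comp_left _ _ _ _ _ _ _ inferInstance h
  exact @IsIso.of_isIso_comp_right _ _ _ _ _ _ ((DCoh.Rpush f).map
    ((DerivedCategory.quotientCompQhIso X.Modules).hom.app K)) inferInstance h2

variable [QuasiCompact f] [QuasiSeparated f] {J : Type u} [SmallCategory J] [IsFiltered J]

theorem isIso_unit_colimit (C : J ⥤ CochainComplex X.Modules ℤ) (c : Cocone C) (hc : IsColimit c)
    (hG : ∀ i, Nonempty (IsColimit ((DerivedCategory.Q ⋙ DCoh.Rpush f ⋙
      DerivedCategory.homologyFunctor Y.Modules i).mapCocone c)))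
    (hac : ∀ j, IsIso ((Dcoh.DerSch.rpushUnitQ f).app (C.obj j))) :
    IsIso ((Dcoh.DerSch.rpushUnitQ f).app c.pt) := by
  have h : ∀ i, IsIso ((unitH f i).app c.pt) := fun i =>
    have := preservesColimitsOfShape_homology_push f J i
    isIso_app_of_isColimit (unitH f i) c (fun j => isIso_unitH_app f i _ (hac j))
      (isColimitOfPreserves _ hc) (hG i).some
  rw [DerivedCategory.isIso_iff]
  intro i
  have h1 := h i
  dsimp only [unitH, NatTrans.comp_app, Functor.whiskerLeft_app, Functor.whiskerRight_app] at h1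
  exact @IsIso.of_isIso_comp_left _ _ _ _ _ _ _ inferInstance h1

end K370.PushUnit
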