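import Groth.Agent.S1008
import Groth.Agent.PerfC.LpullTens
import Groth.Agent.PerfC.ProjAbs291
import Groth.Agent.Dcoh.DualX
import Groth.Agent.PerfA.PCohQCoh

/-!
# Testing isomorphisms in `D_QCoh` with `Rf_* RHom(F, -)`

Let `X` be quasi-compact and quasi-separated, `f : X ⟶ Y` any morphism and `φ : A₁ ⟶ A₂` a morphism of objects with
quasi-coherent cohomology.  If `Rf_* RHom(F, φ)` is an isomorphism for every complex `F` whose class is perfect, then
`φ` is an isomorphism.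
-/

set_option autoImplicit false

universe u

open CategoryTheory CategoryTheory.Limits AlgebraicGeometry Pretriangulated MonoidalCategory

attribute [local instance] HasDerivedCategory.standard

namespace K370.RHomTest

open Groth.Agent Groth.Agent.PerfC.IsoLocus
open scoped Groth.Agent.Dcoh.MonCat Groth.Agent.Dcoh.ModD

/-- Bijectivity on `Hom(L T, -)` from an isomorphism `R φ`. -/
lemma bijective_of_isIso_map {C D : Type*} [Category* C] [Category* D] {L : C ⥤ D} {R : D ⥤ C}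
    (adj : L ⊣ R) {A₁ A₂ : D} (φ : A₁ ⟶ A₂) (h : IsIso (R.map φ)) (T : C) :
    Function.Bijective (fun (g : L.obj T ⟶ A₁) => g ≫ φ) := by
  have h1 : (fun (g : L.obj T ⟶ A₁) => g ≫ φ) =
      (adj.homEquiv T A₂).symm ∘ (fun k : T ⟶ R.obj A₁ => k ≫ R.map φ) ∘ (adj.homEquiv T A₁) := by
    funext g
    simp [Adjunction.homEquiv_unit, Adjunction.homEquiv_counit]
  rw [h1]
  refine (Equiv.bijective _).comp (Function.Bijective.comp ?_ (Equiv.bijective _))
  exact ⟨fun a b hab => (cancel_mono (R.map φ)).1 hab, fun b => ⟨b ≫ inv (R.map φ), by simp⟩⟩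

/-- Transport along an isomorphism of the source. -/
lemma bijective_of_iso {D : Type*} [Category* D] {S S' A₁ A₂ : D} (e : S ≅ S') (φ : A₁ ⟶ A₂)
    (h : Function.Bijective (fun (g : S ⟶ A₁) => g ≫ φ)) :
    Function.Bijective (fun (g : S' ⟶ A₁) => g ≫ φ) := by
  have h1 : (fun (g : S' ⟶ A₁) => g ≫ φ) =
      (fun k : S ⟶ A₂ => e.inv ≫ k) ∘ (fun (g : S ⟶ A₁) => g ≫ φ) ∘ (fun k : S' ⟶ A₁ => e.hom ≫ k) := by
    funext g
    simp
  rw [h1]
  refine Function.Bijective.comp ?_ (h.comp ?_)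
  · exact ⟨fun a b hab => (cancel_epi e.inv).1 hab, fun b => ⟨e.hom ≫ b, by simp⟩⟩
  · exact ⟨fun a b hab => (cancel_epi e.hom).1 hab, fun b => ⟨e.inv ≫ b, by simp⟩⟩

section

variable {X Y : Scheme.{u}}

/-- `O_X ⊗ᴸ F ≅ F`. -/
noncomputable def unitLT (F : CochainComplex X.Modules ℤ) [DCoh.HasLTensorCx F] :
    (DCoh.LTensorCx F).obj (DerivedCategory.Q.obj (PerfC.LpullTens.unitCx X)) ≅ DerivedCategory.Q.obj F :=
  (Dcoh.ModTens.LTensorCxIso F).app _ ≪≫
    MonoidalCategory.whiskerRightIso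
      (((DerivedCategory.singleFunctorIsoCompQ X.Modules 0).symm.app (Coh.structureModule X)) ≪≫
        Dcoh.DualX.unitIso X) (DerivedCategory.Q.obj F) ≪≫ λ_ (DerivedCategory.Q.obj F)

variable (f : X ⟶ Y) [DCoh.HasRpush f]

/-- `Hom(F⟦n⟧, φ)` is bijective as soon as `Rf_* RHom(F, φ)` is an isomorphism. -/
theorem bijective_shift (F : CochainComplex X.Modules ℤ) [DCoh.HasLTensorCx F] [DCoh.HasRSheafHom F]
    {A₁ A₂ : DCoh.D X} (φ : A₁ ⟶ A₂)
    (h : IsIso ((DCoh.Rpush f).map ((DCoh.RSheafHom F).map φ))) (n : ℤ) :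
    Function.Bijective (fun (g : (DerivedCategory.Q.obj F)⟦n⟧ ⟶ A₁) => g ≫ φ) := by
  have := Dcoh.DerPull.hasLpull f
  have adj : DCoh.Lpull f ⋙ DCoh.LTensorCx F ⊣ DCoh.RSheafHom F ⋙ DCoh.Rpush f :=
    (Dcoh.DerPull.lpullAdj f).comp (DCoh.RSheafHomAdj F)
  have hT : IsTriang (DCoh.Lpull f ⋙ DCoh.LTensorCx F) :=
    (PerfC.ProjAbs291.isTriang_Lpull f).comp (PerfC.DTens.isTriang_LTensorCx F)
  obtain ⟨_, _⟩ := hT
  let O : DCoh.D Y := DerivedCategory.Q.obj (PerfC.LpullTens.unitCx Y)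
  have e : (DCoh.Lpull f ⋙ DCoh.LTensorCx F).obj (O⟦n⟧) ≅ (DerivedCategory.Q.obj F)⟦n⟧ :=
    ((DCoh.Lpull f ⋙ DCoh.LTensorCx F).commShiftIso n).app O ≪≫
      (shiftFunctor (DCoh.D X) n).mapIso
        ((DCoh.LTensorCx F).mapIso (PerfC.LpullTens.lpullUnit f) ≪≫ unitLT F)
  exact bijective_of_iso e φ (bijective_of_isIso_map adj φ h _)

/-- A morphism of objects of `D_QCoh(O_X)`, `X` quasi-compact and quasi-separated, is an isomorphism if
`Rf_* RHom(F, -)` turns it into an isomorphism for all `F` perfect. -/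
theorem isIso_of_perfect [CompactSpace X] [QuasiSeparatedSpace X]
    [hT : ∀ F : CochainComplex X.Modules ℤ, DCoh.HasLTensorCx F]
    [hR : ∀ F : CochainComplex X.Modules ℤ, DCoh.HasRSheafHom F]
    {A₁ A₂ : DCoh.D X} (h₁ : DCoh.IsQCohD A₁) (h₂ : DCoh.IsQCohD A₂) (φ : A₁ ⟶ A₂)
    (h : ∀ F : CochainComplex X.Modules ℤ, DCoh.IsPerfect (DCoh.toD X F) →
      IsIso ((DCoh.Rpush f).map ((DCoh.RSheafHom F).map φ))) : IsIso φ := by
  obtain ⟨P, hP, hgen⟩ := Groth.Agent.S1008.result X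
  obtain ⟨C, g, k, hTr⟩ := distinguished_cocone_triangle φ
  have hC : DCoh.IsQCohD C := (DCoh.IsQCohD (X := X)).ext_of_isTriangulatedClosed₃ _ hTr h₁ h₂
  have hbij : ∀ n : ℤ, Function.Bijective (fun (g : P⟦n⟧ ⟶ A₁) => g ≫ φ) := by
    intro n
    let F := DerivedCategory.Q.objPreimage P
    let e : DerivedCategory.Q.obj F ≅ P := DerivedCategory.Q.objObjPreimageIso P
    have hF : DCoh.IsPerfect (DCoh.toD X F) := Dcoh.LocalD.isPerfect_of_iso e.symm hP
    exact bijective_of_iso ((shiftFunctor (DCoh.D X) n).mapIso e) φ (bijective_shift f F φ (h F hF) n)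
  have hC0 : IsZero C := by
    refine (hgen C hC).2 fun n ψ => ?_
    have h0 : ψ ≫ k = 0 := by
      -- shift back by `-1`
      have h1 : (ψ ≫ k) ≫ φ⟦(1 : ℤ)⟧' = 0 := by
        rw [Category.assoc, show k ≫ φ⟦(1 : ℤ)⟧' = 0 from comp_distTriang_mor_zero₃₁ _ hTr, comp_zero]
      let a : P⟦n⟧ ≅ (P⟦n - 1⟧)⟦(1 : ℤ)⟧ := (shiftFunctorAdd' (DCoh.D X) (n - 1) 1 n (by lia)).app P
      obtain ⟨w, hw⟩ := (shiftFunctor (DCoh.D X) (1 : ℤ)).map_surjective (a.inv ≫ ψ ≫ k)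
      have h2 : w ≫ φ = 0 := by
        apply (shiftFunctor (DCoh.D X) (1 : ℤ)).map_injective
        rw [Functor.map_comp, hw, Functor.map_zero, Category.assoc, h1, comp_zero]
      have h3 : w = 0 := (hbij (n - 1)).1 (by simpa using h2)
      rw [h3, Functor.map_zero] at hw
      rw [← cancel_epi a.inv, ← hw, comp_zero]
    obtain ⟨v, hv⟩ := Triangle.coyoneda_exact₃ _ hTr ψ h0
    obtain ⟨t, ht⟩ := (hbij n).2 v
    have h5 : φ ≫ g = 0 := comp_distTriang_mor_zero₁₂ _ hTr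
    have h6 : (t ≫ φ) ≫ g = 0 := by rw [Category.assoc, h5, comp_zero]
    exact hv.trans ((congrArg (fun z : (P⟦n⟧ ⟶ A₂) => z ≫ g) ht.symm).trans h6)
  exact (Triangle.isZero₃_iff_isIso₁ _ hTr).1 hC0

end

end K370.RHomTest
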