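import Groth.Agent.Dual.H352.RelPerf
import Groth.Agent.PerfB.DQGeom

/-!
# Relative perfectness on affine opens
-/

set_option autoImplicit false

universe u

open CategoryTheory CategoryTheory.Limits AlgebraicGeometry

attribute [local instance] HasDerivedCategory.standard

namespace K370.RelPerfAff

open Groth.Agent Groth.Agent.Dual.H352.RelPerf Groth.Agent.Dual.H352.RelOpc

variable {X S : Scheme.{u}} (f : X ⟶ S)

/-- Restriction to an affine open and then to the spectrum of its ring of functions. -/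
noncomputable def restrictIso {U : X.Opens} (hU : IsAffineOpen U) (E : DCoh.D X) :
    (DCoh.restrictD hU.isoSpec.inv).obj ((DCoh.restrictD U.ι).obj E) ≅ (DCoh.restrictD hU.fromSpec).obj E :=
  (Dcoh.LocalD.restrictCompEq (f := hU.isoSpec.inv) (g := U.ι) (h := hU.fromSpec) rfl).app E

lemma chart_comp {U : X.Opens} (hU : IsAffineOpen U) {V : S.Opens} (hV : IsAffineOpen V) (hUV : U ≤ f ⁻¹ᵁ V) :
    hU.fromSpec ≫ f = Spec.map (f.appLE V U hUV) ≫ hV.fromSpec :=
  (hV.SpecMap_appLE_fromSpec f hU hUV).symm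

/-- From geometric to algebraic relative perfectness on a pair of affine opens. -/
theorem isRelPerfect_of [Flat f] [∀ R : CommRingCat.{u}, PreservesFiniteLimits (tilde.functor R)]
    {E : DCoh.D X} (hpc : ∀ m : ℤ, DCoh.IsPseudoCoherentD m E) (ht : DCoh.LocHasFiniteRelTorDim f E)
    {U : X.Opens} (hU : IsAffineOpen U) {V : S.Opens} (hV : IsAffineOpen V) (hUV : U ≤ f ⁻¹ᵁ V)
    (M : DerivedCategory (ModuleCat.{u} Γ(X, U)))
    (e : (DCoh.restrictD hU.isoSpec.inv).obj ((DCoh.restrictD U.ι).obj E) ≅ (DCoh.tildeD Γ(X, U)).obj M) :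
    @Dual2.IsRelPerfect Γ(S, V) Γ(X, U) _ _ (f.appLE V U hUV).hom.toAlgebra M := by
  let _ := (f.appLE V U hUV).hom.toAlgebra
  have hfl : Module.Flat Γ(S, V) Γ(X, U) := f.flat_appLE hV hU hUV
  have hlim : PreservesFiniteLimits (tilde.functor (CommRingCat.of Γ(X, U))) :=
    inferInstanceAs (PreservesFiniteLimits (tilde.functor Γ(X, U)))
  let e' : (DCoh.restrictD hU.fromSpec).obj E ≅ (DCoh.tildeD Γ(X, U)).obj M := (restrictIso hU E).symm ≪≫ e
  refine isRelPerfect_of_tildeD Γ(S, V) Γ(X, U) M (fun m => ?_) ?_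
  · exact Dcoh.LocalD.isPseudoCoherentD_of_iso e' (Dcoh.LocalD.isPseudoCoherentD_restrict _ (hpc m))
  · exact locHasFiniteRelTorDim_of_iso e'
      (locHasFiniteRelTorDim_restrict' hU.fromSpec hV.fromSpec _ (chart_comp f hU hV hUV) ht)

/-- From algebraic to geometric relative perfectness. -/
theorem relPerfect_of [Flat f] [∀ R : CommRingCat.{u}, PreservesFiniteLimits (tilde.functor R)]
    {E : DCoh.D X} (hE : DCoh.IsQCohD E)
    (h : ∀ x : X, ∃ (U : X.Opens) (hU : IsAffineOpen U) (V : S.Opens) (_ : IsAffineOpen V) (hUV : U ≤ f ⁻¹ᵁ V),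
      x ∈ U ∧ ∀ (M : DerivedCategory (ModuleCat.{u} Γ(X, U))),
        Nonempty ((DCoh.restrictD hU.isoSpec.inv).obj ((DCoh.restrictD U.ι).obj E) ≅
          (DCoh.tildeD Γ(X, U)).obj M) →
        @Dual2.IsRelPerfect Γ(S, V) Γ(X, U) _ _ (f.appLE V U hUV).hom.toAlgebra M) :
    (∀ m : ℤ, DCoh.IsPseudoCoherentD m E) ∧ DCoh.LocHasFiniteRelTorDim f E := by
  refine relPerfect_of_charts f E fun x => ?_
  obtain ⟨U, hU, V, hV, hUV, hx, hM⟩ := h x
  have hq : DCoh.IsQCohD ((DCoh.restrictD hU.isoSpec.inv).obj ((DCoh.restrictD U.ι).obj E)) :=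
    PerfB.DQGeom.isQCohD_restrictD _ (PerfB.DQGeom.isQCohD_restrictD _ hE)
  obtain ⟨M, ⟨e⟩⟩ := ((Groth.Agent.S0997.result Γ(X, U)).2.2 _).1 hq
  refine ⟨Γ(S, V), Γ(X, U), f.appLE V U hUV, hU.fromSpec, inferInstance, hV.fromSpec, inferInstance, M, ?_,
    chart_comp f hU hV hUV, f.flat_appLE hV hU hUV, ⟨(restrictIso hU E).symm ≪≫ e.symm⟩, hM M ⟨e.symm⟩⟩
  rw [hU.range_fromSpec]
  exact hx

end K370.RelPerfAff
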