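import Groth.Agent.PerfB.ResolMain
import Groth.Agent.PerfA.ExtPC
import Mathlib.Algebra.Homology.Embedding.CochainComplex

/-!
# Strictly perfect resolutions of bounded below perfect complexes
-/

set_option autoImplicit false

universe u v

open CategoryTheory CategoryTheory.Limits AlgebraicGeometry

attribute [local instance] HasDerivedCategory.standard

namespace K370.ResolBdd

open Groth.Agent

section Abs

variable {A : Type u} [Category.{v} A] [Abelian A] (J : CochainComplex A ℤ) (N : ℤ)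

lemma isZero_truncLE_X' (a : ℤ) [J.IsStrictlyGE a] (i : ℤ) (hi : i < a) :
    IsZero ((J.truncLE N).X i) := by
  have : Mono ((J.ιTruncLE N).f i) :=
    inferInstanceAs (Mono ((HomologicalComplex.ιTruncLE J (ComplexShape.embeddingUpIntLE N)).f i))
  exact IsZero.of_mono ((J.ιTruncLE N).f i) (J.isZero_of_isStrictlyGE a i hi)

/-- In degrees `< N`, `τ_{≤ N} J` and `J` have the same terms. -/
lemma nonempty_truncLE_XIso (i : ℤ) (hi : i < N) : Nonempty ((J.truncLE N).X i ≅ J.X i) :=
  ⟨J.truncLEXIso N i (by lia)⟩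

end Abs

theorem exists_strictlyPerfect (X : Scheme.{u}) [CompactSpace ↥X]
    [QuasiSeparatedSpace ↥X] (hX : PerfAux.HasResolutionProperty X) (F : CochainComplex X.Modules ℤ)
    (hFb : ∃ a : ℤ, ∀ n : ℤ, n < a → IsZero (F.X n)) (hFq : ∀ n : ℤ, Coh.IsQCoh (F.X n))
    (hF : DCoh.IsPerfect (DCoh.toD X F)) :
    ∃ (E : CochainComplex X.Modules ℤ) (φ : E ⟶ F), DCoh.IsStrictlyPerfect E ∧ QuasiIso φ := by
  obtain ⟨a, ha⟩ := hFb
  have hFa : F.IsStrictlyGE a := (CochainComplex.isStrictlyGE_iff _ _).2 ha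
  obtain ⟨b, hb⟩ := PerfA.ExtPC.exists_isLE_of_isPseudoCoherentD
    (PerfA.ExtPC.isPseudoCoherentD_of_isPerfect hF 0)
  have hb' : F.IsLE b := (DerivedCategory.isLE_Q_obj_iff F b).1 hb
  let K := F.truncLE b
  have h1 : QuasiIso (F.ιTruncLE b) := by
    rw [CochainComplex.quasiIso_ιTruncLE_iff]
    exact hb'
  have h2 : K.IsStrictlyGE a := (CochainComplex.isStrictlyGE_iff _ _).2 fun i hi =>
    isZero_truncLE_X' F b a i hi
  have hq : ∀ n, Coh.IsQCoh (K.X n) := by
    intro n
    rcases lt_trichotomy n b with hn | hn | hn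
    · obtain ⟨e⟩ := nonempty_truncLE_XIso F b n hn
      exact PerfA.QCohSerre.isQCoh_of_iso e.symm (hFq n)
    · subst hn
      exact PerfA.QCohSerre.isQCoh_of_iso (F.truncLEXIsoCycles n).symm (PerfB.ResolMain.isQCoh_cycles F hFq n)
    · exact (PerfA.QCohSerre.qcoh X).prop_of_isZero (K.isZero_of_isStrictlyLE b n hn)
  have hK : DCoh.IsPerfect (DCoh.toD X K) := by
    have : IsIso (DerivedCategory.Q.map (F.ιTruncLE b)) := (DerivedCategory.isIso_Q_map_iff_quasiIso _ _).2 h1
    exact PerfA.PerfLocal.isPerfect_of_iso (asIso (DerivedCategory.Q.map (F.ιTruncLE b))).symm hF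
  obtain ⟨G, g, hG, hg⟩ := PerfB.ResolMain.exists_strictlyPerfect_quasiIso X hX K a b hq hK
  exact ⟨G, g ≫ F.ιTruncLE b, hG, inferInstance⟩

end K370.ResolBdd
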